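import Mathlib
import Cfsg.Agent.Lib.SL2Chars49.Counts
import Cfsg.Agent.Lib.SL2Chars49.McKayTools
import Cfsg.Agent.Lib.Characters.Kernel
import Cfsg.Prelude.Def_DegreeGraph

/-!
# The degree sets of `SL₂(q)` and `PSL₂(q)`
-/

set_option autoImplicit false
set_option linter.style.haveILetI false
set_option linter.unusedSectionVars false

namespace Cfsg.Agent.Lib.Elem70.Degrees.SL2Deg

open Cfsg.Agent.Lib.SL2Chars49
open Cfsg.Agent.Lib.Characters

variable {F : Type*} [Field F] [Fintype F]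

local notation "SL" => Matrix.SpecialLinearGroup (Fin 2) F
local notation "PSL" => Matrix.ProjectiveSpecialLinearGroup (Fin 2) F

section basic

variable [DecidableEq F]

/-- The possible degrees. -/
theorem deg_cases (χ : Cfsg.IrrCharacter SL) {d : ℕ} (hd : (χ : SL → ℂ) 1 = d) :
    d = 1 ∨ d = Fintype.card F ∨ d = Fintype.card F + 1 ∨ d + 1 = Fintype.card F ∨
      (Odd (Fintype.card F) ∧ (2 * d = Fintype.card F + 1 ∨ 2 * d + 1 = Fintype.card F)) := by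
  obtain ⟨C, hC, hcard⟩ := exists_C (F := F)
  rcases classify hC hcard χ.2 with hb | ⟨ho, hb | hb⟩
  · rcases hb.degree with ⟨e, -⟩ | ⟨e, -⟩ | ⟨e, -⟩ | ⟨e, -⟩
    · left; exact_mod_cast hd.symm.trans e
    · right; left; exact_mod_cast hd.symm.trans e
    · right; right; left; exact_mod_cast hd.symm.trans e
    · right; right; right; left
      have : ((d + 1 : ℕ) : ℂ) = ((Fintype.card F : ℕ) : ℂ) := by
        push_cast; linear_combination e - hd
      exact_mod_cast this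
  · right; right; right; right
    refine ⟨ho, Or.inl ?_⟩
    have : ((2 * d : ℕ) : ℂ) = ((Fintype.card F + 1 : ℕ) : ℂ) := by
      push_cast; linear_combination hb.degree - 2 * hd
    exact_mod_cast this
  · right; right; right; right
    refine ⟨ho, Or.inr ?_⟩
    have : ((2 * d + 1 : ℕ) : ℂ) = ((Fintype.card F : ℕ) : ℂ) := by
      push_cast; linear_combination hb.degree - 2 * hd
    exact_mod_cast this

/-- Central elements are the signed scalars. -/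
theorem exists_sc {g : SL} (hg : g ∈ Subgroup.center SL) : ∃ z : RtT F, g = sc z := by
  obtain ⟨r, hr, he⟩ := Matrix.SpecialLinearGroup.mem_center_iff.1 hg
  refine ⟨⟨r, by simpa [Rt, sq] using hr⟩, ?_⟩
  apply Matrix.SpecialLinearGroup.ext
  intro i j
  rw [← he]
  fin_cases i <;> fin_cases j <;> simp [sc, nu, Cfsg.Agent.Lib.PSLTwo.Sylow.mk2, Matrix.scalar]

/-- A character of `SL₂` trivial at the scalars gives one of `PSL₂` with the same degree. -/
theorem exists_psl (χ : Cfsg.IrrCharacter SL)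
    (h : ∀ z : RtT F, (χ : SL → ℂ) (sc z) = (χ : SL → ℂ) 1) :
    ∃ φ : Cfsg.IrrCharacter PSL, (φ : PSL → ℂ) 1 = (χ : SL → ℂ) 1 := by
  obtain ⟨φ, -, hφ, hirr⟩ := Kernel.exists_descend (Subgroup.center SL) (Basic.isCharacter_irr χ)
    fun g hg => by obtain ⟨z, rfl⟩ := exists_sc hg; exact h z
  refine ⟨⟨φ, hirr χ.2⟩, ?_⟩
  rw [← hφ, Function.comp_apply, map_one]

theorem exists_mulChar (h : 5 < Fintype.card F ∨ (3 < Fintype.card F ∧ CharP F 2)) :
    ∃ α : MulChar F ℂ, α ^ 2 ≠ 1 ∧ ∀ z : RtT F, α z.1 = 1 := by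
  have h3 : 3 < Fintype.card F := by omega
  have hprim := Complex.isPrimitiveRoot_exp (Fintype.card F - 1) (by omega)
  obtain ⟨χ, hχ⟩ := MulChar.exists_mulChar_orderOf F dvd_rfl hprim
  rcases h with h | ⟨-, h2⟩
  · refine ⟨χ ^ 2, fun h0 => ?_, fun z => ?_⟩
    · rw [← pow_mul] at h0
      have := Nat.le_of_dvd (by norm_num) (orderOf_dvd_of_pow_eq_one h0)
      omega
    · show (χ ^ 2) ((rtU z : Fˣ) : F) = 1
      rw [MulChar.pow_apply_coe χ 2 (rtU z), ← map_pow]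
      show χ ((rtU z : Fˣ) ^ 2 : Fˣ) = 1
      have : (rtU z) ^ 2 = 1 := Units.ext (by simp [sq]; exact z.2)
      rw [this, Units.val_one, map_one]
  · refine ⟨χ, fun h0 => ?_, fun z => ?_⟩
    · have := Nat.le_of_dvd (by norm_num) (orderOf_dvd_of_pow_eq_one h0)
      omega
    · haveI := h2
      have hz : (z.1 - 1) * (z.1 - 1) = 0 := by
        have e : z.1 * z.1 = 1 := z.2
        linear_combination e + (1 - z.1) * CharTwo.two_eq_zero (R := F)
      rw [sub_eq_zero.1 (mul_self_eq_zero.1 hz), map_one]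

theorem exists_homC {C : Subgroup SL} (hC : IsCyclic C) (hcard : Nat.card C = Fintype.card F + 1)
    (h : 3 < Fintype.card F) :
    ∃ θ : C →* ℂˣ, θ ^ 2 ≠ 1 ∧ ∀ z : RtT F, θ (scC hC hcard z) = 1 := by
  obtain ⟨c, hc⟩ := hC.exists_generator
  have hco : orderOf c = Fintype.card F + 1 := by
    rw [orderOf_eq_card_of_forall_mem_zpowers hc, hcard]
  have hprim := Complex.isPrimitiveRoot_exp (Fintype.card F + 1) (by omega)
  obtain ⟨u, hu⟩ := hprim.isUnit (by omega)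
  have huo : orderOf u = Fintype.card F + 1 := by
    rw [← orderOf_units, hu, ← hprim.eq_orderOf]
  let ψ : C →* ℂˣ := monoidHomOfForallMemZpowers hc (g' := u) (by rw [hco, huo])
  have hψ : ψ c = u := monoidHomOfForallMemZpowers_apply_gen hc (by rw [hco, huo])
  refine ⟨ψ ^ 2, fun h0 => ?_, fun z => ?_⟩
  · have h1 : ψ c ^ 4 = 1 := by
      have := DFunLike.congr_fun h0 c
      rw [MonoidHom.one_apply, MonoidHom.pow_apply, MonoidHom.pow_apply, ← pow_mul] at this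
      exact this
    rw [hψ] at h1
    have := Nat.le_of_dvd (by norm_num) (orderOf_dvd_of_pow_eq_one h1)
    omega
  · rw [MonoidHom.pow_apply, ← map_pow]
    have : (scC hC hcard z) ^ 2 = 1 := by
      apply Subtype.ext
      show sc z ^ 2 = 1
      have hz : rtU z * rtU z = 1 := Units.ext z.2
      rw [sq, sc_eq_dg, ← map_mul, hz, map_one]
    rw [this, map_one]

theorem exists_deg_q : ∃ φ : Cfsg.IrrCharacter PSL, (φ : PSL → ℂ) 1 = (Fintype.card F : ℕ) := by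
  obtain ⟨φ, hφ⟩ := exists_psl (F := F) ⟨st, isIrr_st⟩ fun z => by
    show st (sc z) = st 1
    rw [st_sc, st_one]
  exact ⟨φ, hφ.trans st_one⟩

theorem exists_deg_succ (h : 5 < Fintype.card F ∨ (3 < Fintype.card F ∧ CharP F 2)) :
    ∃ φ : Cfsg.IrrCharacter PSL, (φ : PSL → ℂ) 1 = (Fintype.card F + 1 : ℕ) := by
  obtain ⟨α, hα, hz⟩ := exists_mulChar h
  obtain ⟨φ, hφ⟩ := exists_psl ⟨pi α, isIrr_pi hα⟩ fun z => by
    show pi α (sc z) = pi α 1
    rw [pi_sc, pi_one, hz, mul_one]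
  exact ⟨φ, hφ.trans (by show pi α 1 = _; rw [pi_one]; push_cast; ring)⟩

theorem exists_deg_pred (h : 3 < Fintype.card F) :
    ∃ φ : Cfsg.IrrCharacter PSL, (φ : PSL → ℂ) 1 = (Fintype.card F - 1 : ℕ) := by
  obtain ⟨C, hC, hcard⟩ := exists_C (F := F)
  obtain ⟨θ, hθ, hz⟩ := exists_homC hC hcard h
  obtain ⟨φ, hφ⟩ := exists_psl ⟨dX hC hcard θ, isIrr_dX hC hcard hθ⟩ fun z => by
    show dX hC hcard θ (sc z) = dX hC hcard θ 1
    rw [dX_sc, dX_one, hz, Units.val_one, mul_one]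
  exact ⟨φ, hφ.trans (by show dX hC hcard θ 1 = _; rw [dX_one, Nat.cast_sub (by omega), Nat.cast_one])⟩

end basic

/-- Inflation to `SL₂`. -/
theorem exists_lift (φ : Cfsg.IrrCharacter PSL) :
    ∃ χ : Cfsg.IrrCharacter SL, (χ : SL → ℂ) 1 = (φ : PSL → ℂ) 1 :=
  ⟨⟨_, Basic.isIrrCharacter_comp (QuotientGroup.mk' (Subgroup.center SL))
    (QuotientGroup.mk'_surjective _) φ.2⟩, by simp⟩

variable {S : Type*} [Group S] [Finite S]

theorem mem_charDegrees {d : ℕ} :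
    d ∈ Cfsg.charDegrees S ↔ ∃ χ : Cfsg.IrrCharacter S, (χ : S → ℂ) 1 = d := by
  refine exists_congr fun χ => ⟨fun h => ?_, McKay.charDegree_of_eq⟩
  obtain ⟨n, -, hn⟩ := Basic.exists_degree_pos χ
  rw [McKay.charDegree_of_eq hn] at h
  rw [hn, h]

theorem charDegrees_congr {T : Type*} [Group T] [Finite T] (e : S ≃* T) :
    Cfsg.charDegrees S = Cfsg.charDegrees T := by
  ext d
  rw [mem_charDegrees, mem_charDegrees]
  constructor <;> rintro ⟨χ, hχ⟩
  · exact ⟨⟨_, Basic.isIrrCharacter_comp e.symm.toMonoidHom e.symm.surjective χ.2⟩, by simpa using hχ⟩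
  · exact ⟨⟨_, Basic.isIrrCharacter_comp e.toMonoidHom e.surjective χ.2⟩, by simpa using hχ⟩

/-- The degree facts shared by `SL₂` and `PSL₂`. -/
theorem degrees_facts (hS : Nonempty (S ≃* PSL) ∨ Nonempty (S ≃* SL)) :
    (∀ d ∈ Cfsg.charDegrees S,
      d = 1 ∨ d = Fintype.card F ∨ d = Fintype.card F + 1 ∨ d + 1 = Fintype.card F ∨
        (Odd (Fintype.card F) ∧ (2 * d = Fintype.card F + 1 ∨ 2 * d + 1 = Fintype.card F))) ∧
      (3 < Fintype.card F → Fintype.card F ∈ Cfsg.charDegrees S ∧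
        Fintype.card F - 1 ∈ Cfsg.charDegrees S) ∧
      ((5 < Fintype.card F ∨ (3 < Fintype.card F ∧ CharP F 2)) → Fintype.card F + 1 ∈ Cfsg.charDegrees S) := by
  classical
  have key : ∀ d, (∃ φ : Cfsg.IrrCharacter PSL, (φ : PSL → ℂ) 1 = (d : ℕ)) →
      d ∈ Cfsg.charDegrees S := fun d ⟨φ, hφ⟩ => by
    rcases hS with ⟨⟨e⟩⟩ | ⟨⟨e⟩⟩ <;> rw [charDegrees_congr e, mem_charDegrees]
    · exact ⟨φ, hφ⟩
    · obtain ⟨χ, hχ⟩ := exists_lift φ
      exact ⟨χ, hχ.trans hφ⟩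
  refine ⟨fun d hd => ?_, fun h => ⟨key _ exists_deg_q, key _ (exists_deg_pred h)⟩,
    fun h => key _ (exists_deg_succ h)⟩
  have : ∃ χ : Cfsg.IrrCharacter SL, (χ : SL → ℂ) 1 = d := by
    rcases hS with ⟨⟨e⟩⟩ | ⟨⟨e⟩⟩ <;> rw [charDegrees_congr e, mem_charDegrees] at hd
    · obtain ⟨φ, hφ⟩ := hd
      obtain ⟨χ, hχ⟩ := exists_lift φ
      exact ⟨χ, hχ.trans hφ⟩
    · exact hd
  obtain ⟨χ, hχ⟩ := this
  exact deg_cases χ hχ

theorem sq_sub_one (q : ℕ) : q ^ 2 - 1 = (q - 1) * (q + 1) := by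
  rw [mul_comm, ← Nat.sq_sub_sq, one_pow]

/-- The vertices and edges of the degree graph. -/
theorem graph_facts (q : ℕ) (hq : Fintype.card F = q) (h : 3 < q)
    (hS : Nonempty (S ≃* PSL) ∨ Nonempty (S ≃* SL)) (hsucc : q + 1 ∈ Cfsg.charDegrees S) :
    Cfsg.degreePrimes S = {r : ℕ | r.Prime ∧ r ∣ q * (q ^ 2 - 1)} ∧
      ∀ r s : ℕ, (Cfsg.degreeGraph S).Adj r s ↔ (r ≠ s ∧ r.Prime ∧ s.Prime ∧
        ((r ∣ q + 1 ∧ s ∣ q + 1) ∨ (r ∣ q - 1 ∧ s ∣ q - 1))) := by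
  obtain ⟨hall, hex, -⟩ := degrees_facts (F := F) hS
  subst hq
  obtain ⟨hdq, hdp⟩ := hex h
  set q := Fintype.card F with hqdef
  obtain ⟨p, n, hp, -, hpn⟩ : ∃ p n : ℕ, p.Prime ∧ 0 < n ∧ q = p ^ n := by
    obtain ⟨n, hp, hn⟩ := FiniteField.card F (ringChar F)
    exact ⟨ringChar F, n, hp, n.pos, hn⟩
  refine ⟨Set.ext fun r => ⟨?_, ?_⟩, fun r s => ⟨?_, ?_⟩⟩
  · rintro ⟨hr, d, hd, hrd⟩
    refine ⟨hr, ?_⟩
    rw [sq_sub_one]
    have hsub : q - 1 + 1 = q := by omega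
    rcases hall d hd with rfl | rfl | rfl | hd' | ⟨ho, hd' | hd'⟩
    · exact absurd (Nat.dvd_one.1 hrd) hr.ne_one
    · exact dvd_mul_of_dvd_left hrd _
    · exact dvd_mul_of_dvd_right (dvd_mul_of_dvd_right hrd _) _
    · exact dvd_mul_of_dvd_right (dvd_mul_of_dvd_left (show d = q - 1 by omega ▸ hrd) _) _
    · exact dvd_mul_of_dvd_right (dvd_mul_of_dvd_right (hrd.trans ⟨2, by omega⟩) _) _
    · exact dvd_mul_of_dvd_right (dvd_mul_of_dvd_left (hrd.trans ⟨2, by omega⟩) _) _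
  · rintro ⟨hr, hrd⟩
    rw [sq_sub_one] at hrd
    refine ⟨hr, ?_⟩
    rcases hr.dvd_mul.1 hrd with h1 | h1
    · exact ⟨q, hdq, h1⟩
    rcases hr.dvd_mul.1 h1 with h2 | h2
    · exact ⟨_, hdp, h2⟩
    · exact ⟨_, hsucc, h2⟩
  · rintro ⟨hrs, hr, hs, d, hd, hd2⟩
    refine ⟨hrs, hr, hs, ?_⟩
    have hrd : r ∣ d := dvd_trans (dvd_mul_right r s) hd2
    have hsd : s ∣ d := dvd_trans (dvd_mul_left s r) hd2
    rcases hall d hd with rfl | rfl | rfl | hd' | ⟨ho, hd' | hd'⟩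
    · exact absurd (Nat.dvd_one.1 hrd) hr.ne_one
    · rw [hpn] at hrd hsd
      exact absurd (((Nat.prime_dvd_prime_iff_eq hr hp).1 (hr.dvd_of_dvd_pow hrd)).trans
        ((Nat.prime_dvd_prime_iff_eq hs hp).1 (hs.dvd_of_dvd_pow hsd)).symm) hrs
    · exact Or.inl ⟨hrd, hsd⟩
    · obtain rfl : d = q - 1 := by omega
      exact Or.inr ⟨hrd, hsd⟩
    · exact Or.inl ⟨hrd.trans ⟨2, by omega⟩, hsd.trans ⟨2, by omega⟩⟩
    · exact Or.inr ⟨hrd.trans ⟨2, by omega⟩, hsd.trans ⟨2, by omega⟩⟩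
  · rintro ⟨hrs, hr, hs, hcase⟩
    have hco : Nat.Coprime r s := (Nat.coprime_primes hr hs).2 hrs
    refine ⟨hrs, hr, hs, ?_⟩
    rcases hcase with ⟨a, b⟩ | ⟨a, b⟩
    · exact ⟨_, hsucc, hco.mul_dvd_of_dvd_of_dvd a b⟩
    · exact ⟨_, hdp, hco.mul_dvd_of_dvd_of_dvd a b⟩

end Cfsg.Agent.Lib.Elem70.Degrees.SL2Deg
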