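import Cfsg.Agent.Lib.Induced.Monomial
import Cfsg.Agent.Lib.Characters.Linear
import Cfsg.Agent.Lib.PrimeDegrees.Solvable
import Cfsg.Agent.S4456
import Cfsg.Agent.S4493

set_option linter.style.haveILetI false

/-!
# Groups with two character degrees have abelian derived subgroup
-/

namespace Cfsg.Agent.Lib.Elem70.Degrees.TwoDegrees

open scoped commutatorElement
open Cfsg.Agent.Lib
open Cfsg.Agent.Lib.Induced.Basic
open Cfsg.Agent.Lib.Characters

universe u

variable {G : Type u} [Group G]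

/-- A character of degree one is trivial on the derived subgroup. -/
theorem linear_apply_commutator {χ : G → ℂ} (h : Cfsg.IsCharacter G χ) (h1 : χ 1 = 1) {x : G}
    (hx : x ∈ commutator G) : χ x = 1 := by
  have := Abelianization.commutator_subset_ker (Linear.degOneHom h h1) hx
  rw [MonoidHom.mem_ker] at this
  rw [← Linear.degOneHom_apply h h1, this, Units.val_one]

variable [Fintype G]

/-- A point in the kernel of the permutation character lies in the subgroup. -/
theorem mem_of_indFun_one_eq (H : Subgroup G) {x : G}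
    (h : Cfsg.indFun H (fun _ => (1 : ℂ)) x = Cfsg.indFun H (fun _ => (1 : ℂ)) 1) : x ∈ H := by
  classical
  by_contra hxH
  have hlt : (∑ a : G, if a⁻¹ * x * a ∈ H then (1 : ℝ) else 0) < ∑ a : G, (1 : ℝ) :=
    Finset.sum_lt_sum (fun a _ => by split_ifs <;> norm_num)
      ⟨1, Finset.mem_univ _, by simp [hxH]⟩
  have e1 : Cfsg.indFun H (fun _ => (1 : ℂ)) x = (Nat.card H : ℂ)⁻¹ *
      ((∑ a : G, if a⁻¹ * x * a ∈ H then (1 : ℝ) else 0 : ℝ) : ℂ) := by
    rw [indFun_apply, Complex.ofReal_sum]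
    congr 1
    exact Finset.sum_congr rfl fun a _ => by split_ifs <;> simp
  have e2 : Cfsg.indFun H (fun _ => (1 : ℂ)) 1 = (Nat.card H : ℂ)⁻¹ *
      ((∑ a : G, (1 : ℝ) : ℝ) : ℂ) := by
    rw [indFun_one, mul_one, Complex.ofReal_sum, Finset.sum_congr rfl fun a _ => Complex.ofReal_one,
      Finset.sum_const, Finset.card_univ, nsmul_eq_mul, mul_one, Fintype.card_eq_nat_card,
      ← H.card_mul_index, Nat.cast_mul, ← mul_assoc,
      inv_mul_cancel₀ (subgroup_card_ne_zero H), one_mul]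
  rw [e1, e2] at h
  exact hlt.ne (Complex.ofReal_injective
    (mul_left_cancel₀ (inv_ne_zero (subgroup_card_ne_zero H)) h))

/-- With no nonlinear degree below `m`, a subgroup of index at most `m` contains the derived
subgroup. -/
theorem commutator_le_of_index_le {m : ℕ}
    (hm : ∀ χ : Cfsg.IrrCharacter G, ∀ d : ℕ, (χ : G → ℂ) 1 = d → d < m → d = 1)
    (H : Subgroup G) (hH : H.index ≤ m) : commutator G ≤ H := by
  classical
  intro x hx
  have key : ∀ φ : G → ℂ, Cfsg.IsCharacter G φ →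
      ∀ n : ℕ, φ 1 = n → n < m → φ x = φ 1 := by
    intro φ hφ
    refine Basic.character_induction (P := fun φ : G → ℂ =>
      Cfsg.IsCharacter G φ ∧ ∀ n : ℕ, φ 1 = n → n < m → φ x = φ 1)
      ⟨Basic.isCharacter_zero, fun n _ _ => rfl⟩ ?_ hφ |>.2
    rintro b ψ _ ⟨hψc, hψ⟩
    refine ⟨Basic.isCharacter_add (Basic.isCharacter_irr b) hψc, fun n hn hnm => ?_⟩
    obtain ⟨d, hd0, hd⟩ := Basic.exists_degree_pos b
    obtain ⟨k, hk⟩ := Basic.exists_degree hψc
    have hn' : n = d + k := by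
      have : ((n : ℕ) : ℂ) = ((d + k : ℕ) : ℂ) := by
        rw [← hn, Pi.add_apply, hd, hk, Nat.cast_add]
      exact_mod_cast this
    have hd1 : d = 1 := hm b d hd (by omega)
    subst hd1
    rw [Pi.add_apply, Pi.add_apply, hψ k hk (by omega),
      linear_apply_commutator (Basic.isCharacter_irr b) (by rw [hd, Nat.cast_one]) hx, hd,
      Nat.cast_one]
  apply mem_of_indFun_one_eq
  set π : G → ℂ := Cfsg.indFun H (fun _ => (1 : ℂ))
  have hπ : Cfsg.IsCharacter G π :=
    Induced.Character.isCharacter_indFun H Basic.isCharacter_one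
  obtain ⟨k, r, hr, hk, hr1, hdec⟩ := Clifford.Basic.exists_eq_nsmul_add hπ (Basic.oneChar G)
  have h1 : Cfsg.classInner π (Basic.oneChar G : G → ℂ) = 1 := by
    haveI := Fintype.ofFinite H
    rw [frobenius_reciprocity H _ (Basic.isClassFunction_irr _)]
    exact Basic.classInner_self_irr (Basic.oneChar H)
  have hk1 : k = 1 := by
    rw [h1] at hk
    exact_mod_cast hk.symm
  rw [hk1, one_smul] at hdec
  obtain ⟨n, hn⟩ := Basic.exists_degree hr
  have hn' : H.index = n + 1 := by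
    have h := congrFun hdec 1
    rw [show π 1 = (H.index : ℂ) * 1 from indFun_one H _, mul_one, Pi.add_apply,
      Basic.oneChar_apply, hn] at h
    have : ((H.index : ℕ) : ℂ) = ((n + 1 : ℕ) : ℂ) := by rw [h, Nat.cast_add, Nat.cast_one]; ring
    exact_mod_cast this
  rw [hdec, Pi.add_apply, Pi.add_apply, key r hr n hn (by omega), Basic.oneChar_apply,
    Basic.oneChar_apply]

/-- An irreducible character of a group with an abelian normal subgroup whose quotient is a
`p`-group is induced from a linear character. -/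
theorem exists_linear_of_abelian_by_pGroup {p : ℕ} [hp : Fact p.Prime] (N : Subgroup G) [N.Normal]
    (hN : ∀ a ∈ N, ∀ b ∈ N, a * b = b * a) (hQ : ∀ g : G, ∃ k : ℕ, g ^ (p ^ k) ∈ N)
    {χ : G → ℂ} (hχ : Cfsg.IsIrrCharacter G χ) :
    ∃ (U : Subgroup G) (lam : U →* ℂˣ), χ = Cfsg.indFun U (fun h => (lam h : ℂ)) := by
  classical
  obtain ⟨U, ⟨ξ, hξ⟩, hind, hhom⟩ := Induced.Monomial.exists_primitive_pair hχ
  obtain ⟨n, ρ, hρ, hρc⟩ := id hξ
  haveI := Clifford.Rep.nontrivial_of_irreducible ρ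
  haveI : Fintype U := Fintype.ofFinite U
  let Z : Subgroup U :=
    { carrier := {u | ∃ c : ℂ, ρ u = c • (1 : Module.End ℂ (Fin n → ℂ))}
      one_mem' := ⟨1, by rw [map_one, one_smul]⟩
      mul_mem' := fun {a b} ⟨c, hc⟩ ⟨d, hd⟩ => ⟨c * d, by
        rw [map_mul, hc, hd, smul_mul_smul_comm, one_mul]⟩
      inv_mem' := fun {a} ⟨c, hc⟩ => ⟨c⁻¹, by
        have hinv : ρ a⁻¹ * ρ a = 1 := by rw [← map_mul, inv_mul_cancel, map_one]
        have hc0 : c ≠ 0 := by
          rintro rfl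
          rw [hc, zero_smul, mul_zero] at hinv
          exact zero_ne_one hinv
        rw [hc, mul_smul_comm, mul_one] at hinv
        rw [← hinv, smul_smul, inv_mul_cancel₀ hc0, one_smul]⟩ }
  haveI hZn : Z.Normal := ⟨fun z ⟨c, hc⟩ g => ⟨c, by
    rw [map_mul, map_mul, hc, mul_smul_comm, mul_one, smul_mul_assoc, ← map_mul, mul_inv_cancel,
      map_one]⟩⟩
  have hscal : ∀ (A : Subgroup U) (_ : A.Normal), (∀ a b : A, ρ a * ρ b = ρ b * ρ a) → A ≤ Z := by
    intro A hAn hcomm x hx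
    haveI : Fintype A := Fintype.ofFinite A
    obtain ⟨φ, hφ⟩ := Clifford.Basic.exists_constituent_restrict A hξ
    haveI := hρ
    obtain ⟨-, hsc⟩ := Clifford.Monomial.scalar_of_commute ρ A φ (by rw [hρc]; exact hφ)
      (hhom A hAn inferInstance φ hφ) hcomm
    obtain ⟨c, hc⟩ := hsc ⟨x, hx⟩
    exact ⟨c, hc⟩
  have hNZ : N.subgroupOf U ≤ Z := hscal _ inferInstance fun a b => by
    rw [← map_mul, ← map_mul]
    congr 1
    exact Subtype.ext (hN _ (Subgroup.mem_subgroupOf.1 a.2) _ (Subgroup.mem_subgroupOf.1 b.2))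
  have hlin : Z = ⊤ → ξ 1 = 1 := by
    intro hZ
    have hc : ∀ a b, ρ a * ρ b = ρ b * ρ a := fun a b => by
      obtain ⟨c, hc⟩ : a ∈ Z := hZ ▸ Subgroup.mem_top a
      rw [hc, smul_mul_assoc, mul_smul_comm, one_mul, mul_one]
    haveI := hρ
    rw [← hρc, Representation.char_one, Clifford.Monomial.finrank_eq_one_of_commute ρ hc,
      Nat.cast_one]
  have hpG : IsPGroup p (U ⧸ Z) := by
    intro w
    obtain ⟨x, rfl⟩ := QuotientGroup.mk'_surjective Z w
    obtain ⟨k, hk⟩ := hQ (x : G)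
    refine ⟨k, ?_⟩
    rw [← map_pow, QuotientGroup.mk'_apply, QuotientGroup.eq_one_iff]
    exact hNZ (Subgroup.mem_subgroupOf.2 (by simpa using hk))
  have hZtop : Z = ⊤ := by
    by_contra hne
    haveI : Nontrivial (U ⧸ Z) := QuotientGroup.nontrivial_iff.mpr hne
    haveI : Nontrivial (Subgroup.center (U ⧸ Z)) := hpG.center_nontrivial
    obtain ⟨w, hw⟩ := exists_ne (1 : Subgroup.center (U ⧸ Z))
    obtain ⟨x, hx⟩ := QuotientGroup.mk'_surjective Z (w : U ⧸ Z)
    let A : Subgroup U := Z ⊔ Subgroup.zpowers x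
    have hxc : ∀ u : U, ⁅u, x⁆ ∈ Z := fun u => by
      rw [← QuotientGroup.eq_one_iff]
      show QuotientGroup.mk' Z ⁅u, x⁆ = 1
      rw [map_commutatorElement, hx, commutatorElement_eq_one_iff_mul_comm]
      exact Subgroup.mem_center_iff.mp w.2 _
    haveI hAn : A.Normal := by
      refine ⟨fun a ha u => ?_⟩
      obtain ⟨z, hz, y, hy, rfl⟩ := Subgroup.mem_sup_of_normal_left.mp ha
      obtain ⟨i, rfl⟩ := Subgroup.mem_zpowers_iff.mp hy
      have h1 : u * x * u⁻¹ ∈ A := by
        have : u * x * u⁻¹ = ⁅u, x⁆ * x := by rw [commutatorElement_def]; group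
        rw [this]
        exact A.mul_mem (Subgroup.mem_sup_left (hxc u))
          (Subgroup.mem_sup_right (Subgroup.mem_zpowers x))
      have : u * (z * x ^ i) * u⁻¹ = (u * z * u⁻¹) * (u * x * u⁻¹) ^ i := by
        rw [conj_zpow]; group
      rw [this]
      exact A.mul_mem (Subgroup.mem_sup_left (hZn.conj_mem z hz u)) (A.zpow_mem h1 i)
    have hcomm : ∀ a b : A, ρ a * ρ b = ρ b * ρ a := by
      have hmem : ∀ a ∈ A, ∃ (c : ℂ) (i : ℤ), ρ a = c • ρ (x ^ i) := by
        intro a ha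
        obtain ⟨z, ⟨c, hc⟩, y, hy, rfl⟩ := Subgroup.mem_sup_of_normal_left.mp ha
        obtain ⟨i, rfl⟩ := Subgroup.mem_zpowers_iff.mp hy
        exact ⟨c, i, by rw [map_mul, hc, smul_mul_assoc, one_mul]⟩
      rintro ⟨a, ha⟩ ⟨b, hb⟩
      obtain ⟨c, i, hc⟩ := hmem a ha
      obtain ⟨d, j, hd⟩ := hmem b hb
      show ρ a * ρ b = ρ b * ρ a
      rw [hc, hd, smul_mul_smul_comm, smul_mul_smul_comm, ← map_mul, ← map_mul, ← zpow_add,
        ← zpow_add, mul_comm c, add_comm]
    apply hw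
    apply Subtype.ext
    show (w : U ⧸ Z) = 1
    rw [← hx]
    exact (QuotientGroup.eq_one_iff x).mpr
      (hscal A hAn hcomm (Subgroup.mem_sup_right (Subgroup.mem_zpowers x)))
  refine ⟨U, Linear.degOneHom (Basic.IsCharacter_of_isIrrCharacter hξ) (hlin hZtop), ?_⟩
  rw [← hind]
  rfl

omit [Fintype G] in
/-- The coprime abelian normal subgroup attached to two character degrees. -/
theorem exists_coprime_abelian [Finite G] {m : ℕ} (hm2 : 2 ≤ m)
    (hcd : ∀ χ : Cfsg.IrrCharacter G, Cfsg.charDegree (χ : G → ℂ) = 1 ∨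
      Cfsg.charDegree (χ : G → ℂ) = m) :
    ∃ H : Subgroup G, H.Normal ∧ (Nat.card H).Coprime m ∧ (∀ a ∈ H, ∀ b ∈ H, a * b = b * a) ∧
      (∀ q : ℕ, q.Prime → q ∣ H.index → q ∣ m) ∧
      (commutator G ≤ H ∨ ∃ p e : ℕ, p.Prime ∧ m = p ^ e ∧ ∀ g : G, ∃ j : ℕ, g ^ p ^ j ∈ H) := by
  classical
  haveI := Fintype.ofFinite G
  have hdeg : ∀ (χ : Cfsg.IrrCharacter G) (d : ℕ), (χ : G → ℂ) 1 = d → d = 1 ∨ d = m :=
    fun χ d hd => by
      have := hcd χ
      rwa [S4493.charDegree_eq χ hd] at this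
  -- the normal complements
  have hcomp : ∀ p, p ∈ m.primeFactors → ∃ N : Subgroup G, N.Normal ∧ (Nat.card N).Coprime p ∧
      ∃ k : ℕ, N.index = p ^ k := fun p hp => by
    refine S4456.result p (Nat.prime_of_mem_primeFactors hp) fun χ hne => ?_
    rw [(hcd χ).resolve_left hne]
    exact Nat.dvd_of_mem_primeFactors hp
  choose N hNn hNc hNi using hcomp
  let H : Subgroup G := ⨅ p : m.primeFactors, N p p.2
  haveI : H.Normal := Subgroup.normal_iInf_normal fun p => hNn p p.2
  have hHc : (Nat.card H).Coprime m := by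
    refine Nat.coprime_of_dvd fun q hq hqH hqm => ?_
    have hq' : q ∈ m.primeFactors := Nat.mem_primeFactors.2 ⟨hq, hqm, by omega⟩
    exact hq.coprime_iff_not_dvd.1 (hNc q hq').symm
      (hqH.trans (Subgroup.card_dvd_of_le (iInf_le (fun p : m.primeFactors => N p p.2) ⟨q, hq'⟩)))
  have hHab : ∀ a ∈ H, ∀ b ∈ H, a * b = b * a := by
    intro a ha b hb
    refine congrArg Subtype.val (S4493.comm_of_linear (P := H) (fun θ => ?_) ⟨a, ha⟩ ⟨b, hb⟩)
    obtain ⟨d, hd0, hdH, hd⟩ := Degree.exists_degree_dvd θ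
    obtain ⟨χ, hχ⟩ := PrimeDegrees.Solvable.degree_dvd_above H θ
    rw [S4493.charDegree_eq θ hd] at hχ
    suffices d = 1 by rw [hd, this, Nat.cast_one]
    rcases hcd χ with h | h <;> rw [h] at hχ
    · exact Nat.dvd_one.1 hχ
    · exact Nat.eq_one_of_dvd_coprimes hHc hdH hχ
  refine ⟨H, inferInstance, hHc, hHab, fun q hq hqi => ?_, ?_⟩
  · by_contra hqm
    haveI := Fact.mk hq
    rw [Subgroup.index_eq_card] at hqi
    obtain ⟨w, hw⟩ := exists_prime_orderOf_dvd_card' (G := G ⧸ H) q hqi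
    obtain ⟨g, rfl⟩ := QuotientGroup.mk'_surjective H w
    have hgq : g ^ q ∈ H := by
      rw [← QuotientGroup.eq_one_iff, QuotientGroup.mk_pow]
      exact hw ▸ pow_orderOf_eq_one _
    have hg : g ∈ H := by
      refine Subgroup.mem_iInf.2 fun ⟨p, hp⟩ => ?_
      haveI := hNn p hp
      obtain ⟨k, hk⟩ := hNi p hp
      have hpq : p ≠ q := fun h => hqm (h ▸ Nat.dvd_of_mem_primeFactors hp)
      have h1 : orderOf (g : G ⧸ N p hp) ∣ q := by
        refine orderOf_dvd_of_pow_eq_one ?_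
        rw [← QuotientGroup.mk_pow, QuotientGroup.eq_one_iff]
        exact (iInf_le (fun p : m.primeFactors => N p p.2) ⟨p, hp⟩) hgq
      have h2 : orderOf (g : G ⧸ N p hp) ∣ p ^ k := by
        rw [← hk, Subgroup.index_eq_card]
        exact orderOf_dvd_natCard _
      have h3 := Nat.eq_one_of_dvd_coprimes
        ((Nat.coprime_primes hq (Nat.prime_of_mem_primeFactors hp)).2 hpq.symm |>.pow_right k) h1 h2
      exact (QuotientGroup.eq_one_iff g).1 (orderOf_eq_one_iff.1 h3)
    rw [← QuotientGroup.eq_one_iff] at hg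
    rw [QuotientGroup.mk'_apply, hg, orderOf_one] at hw
    exact hq.ne_one hw.symm
  by_cases hpp : ∀ p ∈ m.primeFactors, ∀ k : ℕ, m ≠ p ^ k
  · left
    refine le_iInf fun ⟨p, hp⟩ => ?_
    haveI := hNn p hp
    obtain ⟨k, hk⟩ := hNi p hp
    have hab : ∀ a b : G ⧸ N p hp, a * b = b * a := by
      refine S4493.comm_of_linear fun θ => ?_
      obtain ⟨d, hd0, hdQ, hd⟩ := Degree.exists_degree_dvd θ
      have := hdeg ⟨_, Basic.isIrrCharacter_comp (QuotientGroup.mk' (N p hp))
        (QuotientGroup.mk'_surjective _) θ.2⟩ d (by simpa using hd)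
      rw [← Subgroup.index_eq_card, hk] at hdQ
      obtain ⟨i, -, rfl⟩ := (Nat.dvd_prime_pow (Nat.prime_of_mem_primeFactors hp)).1 hdQ
      rcases this with h | h
      · rw [hd, h, Nat.cast_one]
      · exact absurd h.symm (hpp p hp i)
    rw [commutator_def, Subgroup.commutator_le]
    intro a _ b _
    rw [← QuotientGroup.eq_one_iff]
    show QuotientGroup.mk' (N p hp) ⁅a, b⁆ = 1
    rw [map_commutatorElement, commutatorElement_eq_one_iff_mul_comm]
    exact hab _ _
  push Not at hpp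
  obtain ⟨p, hp, k, hk⟩ := hpp
  haveI := Fact.mk (Nat.prime_of_mem_primeFactors hp)
  haveI := hNn p hp
  have hpf : ∀ q ∈ m.primeFactors, q = p := fun q hq =>
    (Nat.prime_dvd_prime_iff_eq (Nat.prime_of_mem_primeFactors hq)
      (Nat.prime_of_mem_primeFactors hp)).1
      ((Nat.prime_of_mem_primeFactors hq).dvd_of_dvd_pow (hk ▸ Nat.dvd_of_mem_primeFactors hq))
  have hHN : N p hp ≤ H := le_iInf fun ⟨q, hq⟩ => by
    obtain rfl := hpf q hq
    exact le_rfl
  have hmem : ∀ g : G, ∃ j : ℕ, g ^ p ^ j ∈ N p hp := fun g => by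
    obtain ⟨j, hj⟩ := hNi p hp
    exact ⟨j, hj ▸ Subgroup.pow_index_mem (N p hp) g⟩
  exact Or.inr ⟨p, k, Nat.prime_of_mem_primeFactors hp, hk, fun g => (hmem g).imp fun j hj => hHN hj⟩

omit [Fintype G] in
/-- The derived subgroup of a group with two character degrees is abelian. -/
theorem commutator_comm [Finite G] {m : ℕ}
    (hcd : ∀ χ : Cfsg.IrrCharacter G, Cfsg.charDegree (χ : G → ℂ) = 1 ∨
      Cfsg.charDegree (χ : G → ℂ) = m) :
    ∀ a ∈ commutator G, ∀ b ∈ commutator G, a * b = b * a := by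
  classical
  haveI := Fintype.ofFinite G
  have hdeg : ∀ (χ : Cfsg.IrrCharacter G) (d : ℕ), (χ : G → ℂ) 1 = d → d = 1 ∨ d = m :=
    fun χ d hd => by
      have := hcd χ
      rwa [S4493.charDegree_eq χ hd] at this
  by_cases hm2 : m ≤ 1
  · intro a _ b _
    exact S4493.comm_of_linear (fun χ => by
      obtain ⟨d, hd0, hd⟩ := Basic.exists_degree_pos χ
      rcases hdeg χ d hd with h | h
      · rw [hd, h, Nat.cast_one]
      · rw [hd, show d = 1 by omega, Nat.cast_one]) a b
  obtain ⟨H, hHn, hHc, hHab, -, hcase⟩ := exists_coprime_abelian (by omega) hcd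
  haveI := hHn
  rcases hcase with h | ⟨p, e, hp, hk, hmem⟩
  · exact fun a ha b hb => hHab a (h ha) b (h hb)
  haveI := Fact.mk hp
  intro a ha b hb
  have key : ⁅a, b⁆ = 1 := Complete.eq_one_of_forall_irr fun χ => by
    obtain ⟨U, lam, hχ⟩ := exists_linear_of_abelian_by_pGroup H
      hHab hmem χ.2
    have hidx : (χ : G → ℂ) 1 = (U.index : ℂ) := by
      rw [hχ, indFun_one, map_one, Units.val_one, mul_one]
    have hU : commutator G ≤ U := by
      refine commutator_le_of_index_le (m := m) (fun ψ d hd hlt => ?_) U ?_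
      · exact (hdeg ψ d hd).resolve_right (by omega)
      · rcases hdeg χ _ hidx with h | h <;> omega
    have hval : ∀ g : G, Cfsg.extendByZero U (fun h => (lam h : ℂ)) (g⁻¹ * ⁅a, b⁆ * g) = 1 := by
      intro g
      have e : g⁻¹ * ⁅a, b⁆ * g = ⁅g⁻¹ * a * g, g⁻¹ * b * g⁆ := by
        simp only [commutatorElement_def]; group
      have ha' : g⁻¹ * a * g ∈ commutator G := by
        simpa using (inferInstance : (commutator G).Normal).conj_mem a ha g⁻¹
      have hb' : g⁻¹ * b * g ∈ commutator G := by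
        simpa using (inferInstance : (commutator G).Normal).conj_mem b hb g⁻¹
      have h1 : g⁻¹ * ⁅a, b⁆ * g =
          ((⁅(⟨_, hU ha'⟩ : U), ⟨_, hU hb'⟩⁆ : U) : G) := by rw [e]; rfl
      rw [h1, extendByZero_coe, map_commutatorElement,
        (commutatorElement_eq_one_iff_mul_comm).2 (mul_comm _ _), Units.val_one]
    rw [hχ, indFun_one, map_one, Units.val_one, mul_one]
    simp only [Cfsg.indFun, hval, Finset.sum_const, Finset.card_univ, nsmul_eq_mul, mul_one,
      Fintype.card_eq_nat_card]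
    rw [← U.card_mul_index, Nat.cast_mul, ← mul_assoc,
      inv_mul_cancel₀ (subgroup_card_ne_zero U), one_mul]
  exact commutatorElement_eq_one_iff_mul_comm.1 key

end Cfsg.Agent.Lib.Elem70.Degrees.TwoDegrees
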