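import Cfsg.Agent.Lib.Elem70.Degrees.Structure
import Cfsg.Agent.Lib.Brauer.Monomial

/-!
# Groups whose character degrees are `1` and `p`
-/

set_option linter.style.haveILetI false

namespace Cfsg.Agent.Lib.Elem70.Degrees.PDegree

open scoped commutatorElement ComplexConjugate
open Cfsg.Agent.Lib
open Cfsg.Agent.Lib.Induced.Basic
open Cfsg.Agent.Lib.Characters

universe u

variable {P : Type u} [Group P] [Fintype P]

/-- An irreducible character of prime degree is either irreducible on a normal subgroup or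
trivial on its derived subgroup. -/
theorem restrict_cases {p : ℕ} (hp : p.Prime) (M : Subgroup P) [M.Normal] (χ : Cfsg.IrrCharacter P)
    (hχ : (χ : P → ℂ) 1 = p) :
    Cfsg.IsIrrCharacter M (fun m : M => (χ : P → ℂ) m) ∨
      ∀ a ∈ M, ∀ b ∈ M, (χ : P → ℂ) ⁅a, b⁆ = (χ : P → ℂ) 1 := by
  classical
  haveI : Fintype M := Fintype.ofFinite M
  obtain ⟨θ, hθ⟩ := Clifford.Basic.exists_constituent_restrict M χ.2
  obtain ⟨d, hd0, hd⟩ := Basic.exists_degree_pos θ
  obtain ⟨e, he⟩ := Basic.exists_classInner_nat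
    (Basic.isCharacter_comp M.subtype (Basic.isCharacter_irr χ)) (Basic.isCharacter_irr θ)
  have he' : Cfsg.classInner (fun m : M => (χ : P → ℂ) m) θ = (e : ℂ) := he
  have hcl := Clifford.Basic.clifford_degree M χ.2 θ hθ
  rw [hχ, he', hd] at hcl
  have hpe : p = e * (Clifford.Basic.inertia M (θ : M → ℂ)).index * d := by exact_mod_cast hcl
  rcases (Nat.dvd_prime hp).1 (Dvd.intro_left _ hpe.symm) with h1 | h1
  · right
    intro a ha b hb
    have hab : ⁅a, b⁆ ∈ M :=
      M.mul_mem (M.mul_mem (M.mul_mem ha hb) (M.inv_mem ha)) (M.inv_mem hb)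
    have hmem : (⟨⁅a, b⁆, hab⟩ : M) ∈ commutator M := by
      have : (⟨⁅a, b⁆, hab⟩ : M) = ⁅(⟨a, ha⟩ : M), ⟨b, hb⟩⁆ := rfl
      rw [this]
      exact Subgroup.commutator_mem_commutator (Subgroup.mem_top _) (Subgroup.mem_top _)
    have hconj : ∀ x : P, Clifford.Basic.conjC M x θ ⟨⁅a, b⁆, hab⟩ =
        Clifford.Basic.conjC M x θ 1 := fun x => by
      have hc1 : Clifford.Basic.conjC M x θ 1 = 1 := by
        have : Clifford.Basic.conjC M x θ 1 = (θ : M → ℂ) 1 := by
          simp [Clifford.Basic.conjC]; rfl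
        rw [this, hd, h1, Nat.cast_one]
      rw [hc1]
      exact TwoDegrees.linear_apply_commutator
        (Clifford.Basic.isCharacter_conjC M x (Basic.isCharacter_irr θ)) hc1 hmem
    have h := Clifford.Basic.clifford M χ.2 θ hθ
    have ha' := congrFun h ⟨⁅a, b⁆, hab⟩
    have hb' := congrFun h 1
    simp only [Pi.smul_apply, Finset.sum_apply, hconj] at ha'
    simp only [Pi.smul_apply, Finset.sum_apply, OneMemClass.coe_one] at hb'
    rw [← hb'] at ha'
    exact ha'
  · left
    subst h1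
    have he1 : e * (Clifford.Basic.inertia M (θ : M → ℂ)).index = 1 :=
      Nat.eq_of_mul_eq_mul_right hp.pos (by rw [one_mul]; exact hpe.symm)
    have hi : (Clifford.Basic.inertia M (θ : M → ℂ)).index = 1 := Nat.eq_one_of_mul_eq_one_left he1
    have he1' : e = 1 := Nat.eq_one_of_mul_eq_one_right he1
    have h := Clifford.Basic.restrict_eq_smul M χ.2 θ hθ fun g =>
      (Clifford.Basic.mem_inertia M).1 (by rw [Subgroup.index_eq_one.1 hi]; exact Subgroup.mem_top g)
    rw [h, he', he1', Nat.cast_one, one_smul]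
    exact θ.2

/-- A central element acts by a scalar. -/
theorem exists_central_scalar (χ : Cfsg.IrrCharacter P) {z : P} (hz : z ∈ Subgroup.center P) :
    ∃ w : ℂ, ∀ g, (χ : P → ℂ) (z * g) = w * (χ : P → ℂ) g := by
  obtain ⟨n, ρ, hρ, hρc⟩ := Basic.exists_rep χ
  haveI := hρ
  obtain ⟨c, hc⟩ := Clifford.Rep.schur ρ (ρ z) fun g => by
    rw [← map_mul, ← map_mul, Subgroup.mem_center_iff.1 hz g]
  refine ⟨c, fun g => ?_⟩
  rw [← hρc]
  simp only [Representation.character, map_mul, hc, smul_mul_assoc, one_mul, map_smul, smul_eq_mul]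

/-- The characters nontrivial on a central subgroup separate points. -/
theorem eq_one_of_nontrivial {z : P} (hz : z ∈ Subgroup.center P) (hz1 : z ≠ 1) {k : P}
    (h : ∀ χ : Cfsg.IrrCharacter P, (χ : P → ℂ) z ≠ (χ : P → ℂ) 1 →
      (χ : P → ℂ) k = (χ : P → ℂ) 1) : k = 1 := by
  classical
  refine Complete.eq_one_of_forall_irr fun ψ => ?_
  by_cases hψ : (ψ : P → ℂ) z = (ψ : P → ℂ) 1
  swap
  · exact h ψ hψ
  obtain ⟨χ, hχ⟩ : ∃ χ : Cfsg.IrrCharacter P, (χ : P → ℂ) z ≠ (χ : P → ℂ) 1 := by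
    by_contra hcon
    push Not at hcon
    exact hz1 (Complete.eq_one_of_forall_irr hcon)
  obtain ⟨w, hw⟩ := exists_central_scalar χ hz
  have hw1 : w ≠ 1 := fun e => hχ (by
    have := hw 1
    rw [mul_one, e, one_mul] at this
    exact this)
  have hψz : ∀ g, (ψ : P → ℂ) (z * g) = (ψ : P → ℂ) g := fun g => by
    exact (Kernel.apply_mul_of_apply_eq_one (Basic.isCharacter_irr ψ) hψ g).1
  set φ : P → ℂ := (χ : P → ℂ) * (ψ : P → ℂ) with hφ
  have hφc : Cfsg.IsCharacter P φ :=
    Basic.isCharacter_mul (Basic.isCharacter_irr χ) (Basic.isCharacter_irr ψ)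
  have hφk : φ k = φ 1 := by
    rw [Basic.character_eq_finsum hφc, finsum_apply (Set.toFinite _),
      finsum_apply (Set.toFinite _)]
    refine finsum_congr fun b => ?_
    simp only [Pi.smul_apply, smul_eq_mul]
    by_cases hb : Cfsg.classInner φ (b : P → ℂ) = 0
    · rw [hb, zero_mul, zero_mul]
    congr 1
    refine h b fun hbz => hb ?_
    have key : Cfsg.classInner φ (b : P → ℂ) = w * Cfsg.classInner φ (b : P → ℂ) := by
      simp only [Cfsg.classInner]
      rw [mul_left_comm]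
      congr 1
      rw [Finset.mul_sum]
      refine (Fintype.sum_equiv (Equiv.mulLeft z) _ _ fun g => ?_).symm
      rw [Equiv.coe_mulLeft, hφ, Pi.mul_apply, Pi.mul_apply, hw, hψz,
        (Kernel.apply_mul_of_apply_eq_one (Basic.isCharacter_irr b) hbz g).1]
      ring
    have : (1 - w) * Cfsg.classInner φ (b : P → ℂ) = 0 := by linear_combination key
    exact (mul_eq_zero.1 this).resolve_left (sub_ne_zero.2 hw1.symm)
  rw [hφ, Pi.mul_apply, Pi.mul_apply] at hφk
  have hχk := h χ hχ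
  rw [hχk] at hφk
  exact mul_left_cancel₀ (Basic.apply_one_ne_zero χ) hφk

/-- A commutator which acts by a nontrivial scalar forces a zero. -/
theorem apply_eq_zero_of_commutator {a b : P} (hc : ⁅b, a⁆ ∈ Subgroup.center P)
    (χ : Cfsg.IrrCharacter P) (hne : (χ : P → ℂ) ⁅b, a⁆ ≠ (χ : P → ℂ) 1) :
    (χ : P → ℂ) a = 0 := by
  obtain ⟨w, hw⟩ := exists_central_scalar χ hc
  have h1 : (χ : P → ℂ) (b * a * b⁻¹) = (χ : P → ℂ) a :=
    Basic.classFunction_apply_of_isConj (Basic.isClassFunction_irr χ)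
      (isConj_iff.2 ⟨b⁻¹, by group⟩)
  rw [show b * a * b⁻¹ = ⁅b, a⁆ * a by rw [commutatorElement_def]; group, hw] at h1
  have hw1 : w ≠ 1 := fun e => hne (by
    have := hw 1
    rw [mul_one, e, one_mul] at this
    exact this)
  have : (w - 1) * (χ : P → ℂ) a = 0 := by linear_combination h1
  exact (mul_eq_zero.1 this).resolve_left (sub_ne_zero.2 hw1)

omit [Fintype P] in
/-- With two cosets worth of non-central index, there is an abelian subgroup of prime index. -/
theorem exists_abelian_of_index_sq [Finite P] {p : ℕ} [hp : Fact p.Prime] (hP : IsPGroup p P)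
    (hi : (Subgroup.center P).index ∣ p ^ 2) (hne : ∃ a b : P, a * b ≠ b * a) :
    ∃ M : Subgroup P, M.index = p ∧ ∀ a ∈ M, ∀ b ∈ M, a * b = b * a := by
  obtain ⟨x, y, hxy⟩ := hne
  let M : Subgroup P := Subgroup.center P ⊔ Subgroup.zpowers x
  have hMab : ∀ a ∈ M, ∀ b ∈ M, a * b = b * a := by
    intro a ha b hb
    obtain ⟨z, hz, u, hu, rfl⟩ := Subgroup.mem_sup_of_normal_left.1 ha
    obtain ⟨z', hz', u', hu', rfl⟩ := Subgroup.mem_sup_of_normal_left.1 hb
    obtain ⟨i, rfl⟩ := Subgroup.mem_zpowers_iff.1 hu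
    obtain ⟨j, rfl⟩ := Subgroup.mem_zpowers_iff.1 hu'
    have c1 : ∀ g, Commute z g := fun g => (Subgroup.mem_center_iff.1 hz g).symm
    have c2 : ∀ g, Commute g z' := fun g => Subgroup.mem_center_iff.1 hz' g
    exact ((c1 _).mul_left ((c2 _).mul_right (Commute.zpow_zpow (Commute.refl x) i j))).eq
  have hxZ : x ∉ Subgroup.center P := fun h => hxy (Subgroup.mem_center_iff.1 h y).symm
  have hMtop : M.index ≠ 1 := fun h => hxy (hMab x (by rw [Subgroup.index_eq_one.1 h]; trivial) y
    (by rw [Subgroup.index_eq_one.1 h]; trivial))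
  have hle : Subgroup.center P ≤ M := le_sup_left
  have hrel : (Subgroup.center P).relIndex M ≠ 1 := fun h =>
    hxZ (Subgroup.relIndex_eq_one.1 h (Subgroup.mem_sup_right (Subgroup.mem_zpowers x)))
  have hmul := Subgroup.relIndex_mul_index hle
  obtain ⟨i, hi2, hi'⟩ := (Nat.dvd_prime_pow hp.out).1 hi
  rw [hi'] at hmul
  obtain ⟨a, ha, ha'⟩ := (Nat.dvd_prime_pow hp.out).1 (Dvd.intro _ hmul)
  obtain ⟨b, hb, hb'⟩ := (Nat.dvd_prime_pow hp.out).1 (Dvd.intro_left _ hmul)
  rw [ha', hb', ← pow_add] at hmul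
  have hab := Nat.pow_right_injective hp.out.two_le hmul
  have ha0 : a ≠ 0 := fun h => hrel (by rw [ha', h, pow_zero])
  have hb0 : b ≠ 0 := fun h => hMtop (by rw [hb', h, pow_zero])
  exact ⟨M, by rw [hb', show b = 1 by omega, pow_one], hMab⟩

omit [Fintype P] in
/-- The core result for groups of prime power order. -/
theorem pgroup_main : ∀ (n : ℕ) (P : Type u) [Group P] [Finite P] (p : ℕ) [Fact p.Prime],
    Nat.card P ≤ n → IsPGroup p P → (∃ a b : P, a * b ≠ b * a) →
    (∀ χ : Cfsg.IrrCharacter P, (χ : P → ℂ) 1 = 1 ∨ (χ : P → ℂ) 1 = p) →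
    (∃ M : Subgroup P, M.index = p ∧ ∀ a ∈ M, ∀ b ∈ M, a * b = b * a) ∨
      (Subgroup.center P).index = p ^ 3 := by
  intro n
  induction n with
  | zero => intro P _ _ p _ hn; exact absurd hn (not_le.2 Nat.card_pos)
  | succ n ih =>
  intro P _ _ p hp hn hP hne hdeg
  classical
  haveI := Fintype.ofFinite P
  haveI : Group.IsNilpotent P := hP.isNilpotent
  haveI : (commutator P).Normal := inferInstance
  have hD : commutator P ⊓ Subgroup.center P ≠ ⊥ := fun h => by
    obtain ⟨a, b, hab⟩ := hne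
    refine hab (commutatorElement_eq_one_iff_mul_comm.1 ?_)
    rw [← Subgroup.mem_bot, ← Brauer.Monomial.eq_bot_of_inf_center h]
    exact Subgroup.commutator_mem_commutator (Subgroup.mem_top a) (Subgroup.mem_top b)
  obtain ⟨k0, hk0⟩ := IsPGroup.iff_card.1 (hP.to_subgroup (commutator P ⊓ Subgroup.center P))
  have hk00 : k0 ≠ 0 := fun h => hD (by
    rw [h, pow_zero] at hk0; exact Subgroup.card_eq_one.1 hk0)
  obtain ⟨⟨z, hzmem⟩, hzo⟩ := exists_prime_orderOf_dvd_card'
    (G := (commutator P ⊓ Subgroup.center P : Subgroup P)) p (hk0 ▸ dvd_pow_self p hk00)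
  rw [← Subgroup.orderOf_coe] at hzo
  have hzD := (Subgroup.mem_inf.1 hzmem).1
  have hzc := (Subgroup.mem_inf.1 hzmem).2
  have hz1 : z ≠ 1 := fun h => by
    simp only [h, orderOf_one] at hzo
    exact hp.out.ne_one hzo.symm
  set Z0 := Subgroup.zpowers z with hZ0
  have hZ0c : Z0 ≤ Subgroup.center P := Subgroup.zpowers_le.2 hzc
  haveI hZ0n : Z0.Normal := ⟨fun x hx g => by
    rwa [Subgroup.mem_center_iff.1 (hZ0c hx) g, mul_inv_cancel_right]⟩
  have hZ0card : Nat.card Z0 = p := by rw [hZ0, Nat.card_zpowers]; exact hzo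
  -- elements of `Z0` other than one generate it
  have hnontriv : ∀ χ : Cfsg.IrrCharacter P, (χ : P → ℂ) z ≠ (χ : P → ℂ) 1 →
      ∀ x ∈ Z0, x ≠ 1 → (χ : P → ℂ) x ≠ (χ : P → ℂ) 1 := by
    intro χ hχ x hx hx1 h
    apply hχ
    have hxo : orderOf x = p := by
      have h1 : orderOf x ∣ p := hZ0card ▸ Subgroup.orderOf_dvd_natCard Z0 hx
      rcases (Nat.dvd_prime hp.out).1 h1 with h2 | h2
      · exact absurd (orderOf_eq_one_iff.1 h2) hx1
      · exact h2
    have hz' : z ∈ Subgroup.zpowers x := by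
      have : Subgroup.zpowers x = Z0 := Subgroup.eq_of_le_of_card_ge (Subgroup.zpowers_le.2 hx)
        (by rw [hZ0card, Nat.card_zpowers, hxo])
      rw [this]; exact Subgroup.mem_zpowers z
    have hxk : x ∈ Kernel.charKer (Basic.isCharacter_irr χ) := (Kernel.mem_charKer _ x).2 h
    exact (Kernel.mem_charKer _ z).1 (Subgroup.zpowers_le.2 hxk hz')
  have hnl : ∀ χ : Cfsg.IrrCharacter P, (χ : P → ℂ) z ≠ (χ : P → ℂ) 1 →
      (χ : P → ℂ) 1 = p := fun χ hχ => by
    refine (hdeg χ).resolve_left fun h1 => hχ ?_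
    rw [h1]; exact TwoDegrees.linear_apply_commutator (Basic.isCharacter_irr χ) h1 hzD
  by_cases hA : ∃ M : Subgroup P, M.index = p ∧ ∀ a ∈ M, ∀ b ∈ M, ⁅a, b⁆ ∈ Z0
  · -- a maximal subgroup with small derived subgroup
    obtain ⟨M, hMi, hMc⟩ := hA
    by_cases hMab : ∀ a ∈ M, ∀ b ∈ M, a * b = b * a
    · exact Or.inl ⟨M, hMi, hMab⟩
    haveI hMn : M.Normal := by
      refine Subgroup.normal_of_index_eq_minFac_card ?_
      obtain ⟨j, hj⟩ := IsPGroup.iff_card.1 hP
      rw [hMi, hj, Nat.pow_minFac (fun h => ?_), hp.out.minFac_eq]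
      rw [h, pow_zero, Nat.card_eq_one_iff_unique] at hj
      obtain ⟨a, b, hab⟩ := hne
      haveI := hj.1
      exact hab (Subsingleton.elim _ _)
    push Not at hMab
    obtain ⟨a0, ha0, b0, hb0, hab0⟩ := hMab
    haveI : Fintype M := Fintype.ofFinite M
    have hirr : ∀ χ : Cfsg.IrrCharacter P, (χ : P → ℂ) z ≠ (χ : P → ℂ) 1 →
        Cfsg.IsIrrCharacter M (fun m : M => (χ : P → ℂ) m) := fun χ hχ => by
      refine (restrict_cases hp.out M χ (hnl χ hχ)).resolve_right fun h => ?_
      exact hnontriv χ hχ _ (hMc a0 ha0 b0 hb0)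
        (fun e => hab0 (commutatorElement_eq_one_iff_mul_comm.1 e)) (h a0 ha0 b0 hb0)
    have hZM : ∀ c : M, c ∈ Subgroup.center M → (c : P) ∈ Subgroup.center P := by
      intro c hc
      refine Subgroup.mem_center_iff.2 fun g => commutatorElement_eq_one_iff_mul_comm.1
        (eq_one_of_nontrivial hzc hz1 fun χ hχ => ?_)
      obtain ⟨d, ρ, hρ, hρc⟩ := Basic.exists_rep χ
      let σ : Representation ℂ M (Fin d → ℂ) := MonoidHom.comp ρ M.subtype
      have hres : σ.IsIrreducible := by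
        rw [Basic.isIrreducible_iff_classInner_self]
        have h : Cfsg.classInner (fun m : M => (χ : P → ℂ) m) (fun m : M => (χ : P → ℂ) m) = 1 :=
          Basic.classInner_self_irr (⟨_, hirr χ hχ⟩ : Cfsg.IrrCharacter M)
        rw [← hρc] at h
        exact h
      haveI := hres
      obtain ⟨s, hs⟩ := Clifford.Rep.schur σ (ρ c) fun m => by
          show ρ c * ρ (m : P) = ρ (m : P) * ρ c
          rw [← map_mul, ← map_mul]
          exact congrArg ρ (congrArg Subtype.val (Subgroup.mem_center_iff.1 hc m)).symm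
      rw [← hρc, ← Kernel.rep_eq_one_iff, commutatorElement_def, map_mul, map_mul, map_mul]
      have : ρ g * ρ c = ρ c * ρ g := by rw [hs, mul_smul_comm, smul_mul_assoc, mul_one, one_mul]
      rw [this, mul_assoc (ρ c), ← map_mul, mul_inv_cancel, map_one, mul_one, ← map_mul,
        mul_inv_cancel, map_one]
    obtain ⟨χ, hχ⟩ : ∃ χ : Cfsg.IrrCharacter P, (χ : P → ℂ) z ≠ (χ : P → ℂ) 1 := by
      by_contra hcon
      push Not at hcon
      exact hz1 (Complete.eq_one_of_forall_irr hcon)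
    let θ : Cfsg.IrrCharacter M := ⟨_, hirr χ hχ⟩
    -- `θ` vanishes off the centre of `M`
    have hvan : ∀ x : M, x ∉ Subgroup.center M → (θ : M → ℂ) x = 0 := by
      intro x hx
      rw [Subgroup.mem_center_iff] at hx
      push Not at hx
      obtain ⟨y, hy⟩ := hx
      refine apply_eq_zero_of_commutator (b := (y : P)) (hZ0c (hMc _ y.2 _ x.2)) χ
        (hnontriv χ hχ _ (hMc _ y.2 _ x.2) fun e => hy ?_)
      exact Subtype.ext (commutatorElement_eq_one_iff_mul_comm.1 e)
    have hcard : Nat.card M = p ^ 2 * Nat.card (Subgroup.center M) := by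
      have h1 := Basic.classInner_self_irr θ
      simp only [Cfsg.classInner] at h1
      rw [← Finset.sum_subset (Finset.subset_univ (Finset.univ.filter (· ∈ Subgroup.center M)))
        fun x _ hx => by simp [hvan x (by simpa using hx)]] at h1
      rw [Finset.sum_congr rfl (g := fun _ => (p : ℂ) ^ 2) fun x hx => ?_] at h1
      · rw [Finset.sum_const, nsmul_eq_mul, inv_mul_eq_one₀ (subgroup_card_ne_zero M)] at h1
        have : (Finset.univ.filter (· ∈ Subgroup.center M)).card = Nat.card (Subgroup.center M) := by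
          rw [Nat.card_eq_fintype_card, Fintype.card_subtype]
        rw [this] at h1
        have h2 : ((Nat.card M : ℕ) : ℂ) = ((p ^ 2 * Nat.card (Subgroup.center M) : ℕ) : ℂ) := by
          rw [h1]; push_cast; ring
        exact_mod_cast h2
      · obtain ⟨w, hw⟩ := exists_central_scalar θ (Finset.mem_filter.1 hx).2
        have h1 : (θ : M → ℂ) 1 = p := hnl χ hχ
        have hn : ‖(θ : M → ℂ) x‖ = (p : ℝ) := by
          have hx1 := hw 1
          rw [mul_one, h1] at hx1
          have hxinv := hw x⁻¹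
          rw [mul_inv_cancel, h1, Basic.apply_inv (Basic.isCharacter_irr θ), hx1, map_mul,
            Complex.conj_natCast] at hxinv
          have hw' : w * conj w = 1 := mul_right_cancel₀
            (Nat.cast_ne_zero.2 hp.out.ne_zero : (p : ℂ) ≠ 0) (by rw [one_mul]; linear_combination -hxinv)
          rw [Complex.mul_conj, Complex.ofReal_eq_one, Complex.normSq_eq_norm_sq] at hw'
          rw [hx1, norm_mul, Complex.norm_natCast, show ‖w‖ = 1 from
            (pow_eq_one_iff_of_nonneg (norm_nonneg w) two_ne_zero).1 hw', one_mul]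
        rw [Complex.mul_conj, Complex.normSq_eq_norm_sq, hn]
        push_cast; rfl
    have hle : (Subgroup.center M).map M.subtype ≤ Subgroup.center P := by
      rintro _ ⟨c, hc, rfl⟩
      exact hZM c hc
    have hdvd : (Subgroup.center P).index ∣ p ^ 3 := by
      refine (Subgroup.index_dvd_of_le hle).trans (dvd_of_eq ?_)
      rw [Subgroup.index_map_subtype, hMi, pow_succ]
      congr 1
      have := Subgroup.index_mul_card (Subgroup.center M)
      rw [hcard] at this
      exact Nat.eq_of_mul_eq_mul_right Nat.card_pos this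
    obtain ⟨i, hi, hi'⟩ := (Nat.dvd_prime_pow hp.out).1 hdvd
    rcases Nat.lt_or_ge i 3 with h | h
    · exact Or.inl (exists_abelian_of_index_sq hP (hi' ▸ pow_dvd_pow p (by omega)) hne)
    · exact Or.inr (by rw [hi', show i = 3 by omega])
  push Not at hA
  -- the quotient by the central subgroup
  have hnab : ∃ a b : P ⧸ Z0, a * b ≠ b * a := by
    by_contra hcon
    push Not at hcon
    obtain ⟨j, hj⟩ := IsPGroup.iff_card.1 hP
    have hj0 : j ≠ 0 := fun h => by
      rw [h, pow_zero, Nat.card_eq_one_iff_unique] at hj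
      obtain ⟨a, b, hab⟩ := hne
      haveI := hj.1
      exact hab (Subsingleton.elim _ _)
    obtain ⟨M, hM⟩ := Sylow.exists_subgroup_card_pow_prime p (n := j - 1) (G := P)
      (hj ▸ pow_dvd_pow p (Nat.sub_le j 1))
    have hMi : M.index = p := by
      have h := M.card_mul_index
      rw [hM, hj] at h
      refine Nat.eq_of_mul_eq_mul_left (Nat.pow_pos hp.out.pos) (h.trans ?_)
      rw [← pow_succ]; congr 1; omega
    obtain ⟨a, ha, b, hb, hab⟩ := hA M hMi
    refine hab ((QuotientGroup.eq_one_iff _).1 ?_)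
    show QuotientGroup.mk' Z0 ⁅a, b⁆ = 1
    rw [map_commutatorElement, commutatorElement_eq_one_iff_mul_comm]
    exact hcon _ _
  have hlt : Nat.card (P ⧸ Z0) ≤ n := by
    have h := Z0.card_eq_card_quotient_mul_card_subgroup
    rw [hZ0card] at h
    have := Nat.card_pos (α := P ⧸ Z0)
    have : 2 ≤ p := hp.out.two_le
    nlinarith
  have hsurj := QuotientGroup.mk'_surjective Z0
  rcases ih (P ⧸ Z0) p hlt (hP.to_quotient Z0) hnab (fun φ => by
      have := hdeg ⟨_, Basic.isIrrCharacter_comp (QuotientGroup.mk' Z0) hsurj φ.2⟩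
      simpa using this) with ⟨B, hBi, hBab⟩ | hQ
  · exfalso
    obtain ⟨a, ha, b, hb, hab⟩ := hA (B.comap (QuotientGroup.mk' Z0))
      (by rw [Subgroup.index_comap_of_surjective B hsurj, hBi])
    refine hab ((QuotientGroup.eq_one_iff _).1 ?_)
    show QuotientGroup.mk' Z0 ⁅a, b⁆ = 1
    rw [map_commutatorElement, commutatorElement_eq_one_iff_mul_comm]
    exact hBab _ ha _ hb
  right
  set Y := (Subgroup.center (P ⧸ Z0)).comap (QuotientGroup.mk' Z0) with hY
  suffices hYc : Y = Subgroup.center P by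
    rw [← hYc, hY, Subgroup.index_comap_of_surjective _ hsurj, hQ]
  refine le_antisymm (fun y hy => ?_) fun y hy => ?_
  swap
  · show QuotientGroup.mk' Z0 y ∈ Subgroup.center (P ⧸ Z0)
    rw [Subgroup.mem_center_iff]
    intro q
    obtain ⟨g, rfl⟩ := hsurj q
    rw [← map_mul, ← map_mul, Subgroup.mem_center_iff.1 hy g]
  by_contra hyc
  have hcomm : ∀ g : P, ⁅g, y⁆ ∈ Z0 := fun g => by
    refine (QuotientGroup.eq_one_iff _).1 ?_
    show QuotientGroup.mk' Z0 ⁅g, y⁆ = 1
    rw [map_commutatorElement, commutatorElement_eq_one_iff_mul_comm]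
    exact Subgroup.mem_center_iff.1 hy _
  let f : P →* Z0 := MonoidHom.mk' (fun g => ⟨⁅g, y⁆, hcomm g⟩) fun g g' => by
    apply Subtype.ext
    show ⁅g * g', y⁆ = ⁅g, y⁆ * ⁅g', y⁆
    have hc' := Subgroup.mem_center_iff.1 (hZ0c (hcomm g')) g
    rw [Subgroup.mem_center_iff.1 (hZ0c (hcomm g')) ⁅g, y⁆]
    have : ⁅g * g', y⁆ = g * ⁅g', y⁆ * g⁻¹ * ⁅g, y⁆ := by simp only [commutatorElement_def]; group
    rw [this, hc', mul_inv_cancel_right]
  set C := f.ker with hC
  have hmemC : ∀ g, g ∈ C → g * y = y * g := fun g hg =>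
    commutatorElement_eq_one_iff_mul_comm.1 (congrArg Subtype.val (MonoidHom.mem_ker.1 hg))
  have hyC : y ∈ C := MonoidHom.mem_ker.2 (Subtype.ext (commutatorElement_self y))
  obtain ⟨g0, hg0⟩ : ∃ g, ⁅g, y⁆ ≠ 1 := by
    by_contra hcon
    push Not at hcon
    exact hyc (Subgroup.mem_center_iff.2 fun g =>
      commutatorElement_eq_one_iff_mul_comm.1 (hcon g))
  have hCi : C.index = p := by
    rw [hC, Subgroup.index_ker]
    have h1 : Nat.card f.range ∣ p := hZ0card ▸ Subgroup.card_subgroup_dvd_card f.range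
    refine ((Nat.dvd_prime hp.out).1 h1).resolve_left fun h => hg0 ?_
    have : f g0 ∈ (⊥ : Subgroup Z0) := Subgroup.card_eq_one.1 h ▸ ⟨g0, rfl⟩
    exact congrArg Subtype.val (Subgroup.mem_bot.1 this)
  obtain ⟨a, ha, b, hb, hab⟩ := hA C hCi
  have hab1 : ⁅a, b⁆ ≠ 1 := fun h => hab (h ▸ Z0.one_mem)
  refine hab1 (eq_one_of_nontrivial hzc hz1 fun χ hχ => ?_)
  rcases restrict_cases hp.out C χ (hnl χ hχ) with h | h
  · exfalso
    haveI : Fintype C := Fintype.ofFinite C
    have h0 : (χ : P → ℂ) y = 0 := apply_eq_zero_of_commutator (hZ0c (hcomm g0)) χ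
      (hnontriv χ hχ _ (hcomm g0) hg0)
    obtain ⟨w, hw⟩ := exists_central_scalar (⟨_, h⟩ : Cfsg.IrrCharacter C)
      (z := ⟨y, hyC⟩) (Subgroup.mem_center_iff.2 fun c => Subtype.ext (hmemC c c.2))
    have h1 := hw 1
    rw [mul_one] at h1
    have h2 := hw ⟨y⁻¹, C.inv_mem hyC⟩
    change (χ : P → ℂ) y = w * (χ : P → ℂ) 1 at h1
    change (χ : P → ℂ) (y * y⁻¹) = w * (χ : P → ℂ) y⁻¹ at h2
    rw [h0, zero_eq_mul] at h1
    rw [mul_inv_cancel, h1.resolve_right (Basic.apply_one_ne_zero χ), zero_mul] at h2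
    exact Basic.apply_one_ne_zero χ h2
  · exact h a ha b hb

omit [Fintype P] in
/-- Groups with all degrees `1` or `p`. -/
theorem exists_structure [Finite P] (hP : ∃ a b : P, a * b ≠ b * a) {p : ℕ} (hp : p.Prime)
    (hcd : ∀ χ : Cfsg.IrrCharacter P, Cfsg.charDegree (χ : P → ℂ) = 1 ∨
      Cfsg.charDegree (χ : P → ℂ) = p) :
    (∃ A : Subgroup P, A.Normal ∧ (∀ a ∈ A, ∀ b ∈ A, a * b = b * a) ∧ A.index = p) ∨
      (Subgroup.center P).index = p ^ 3 := by
  classical
  haveI := Fact.mk hp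
  haveI := Fintype.ofFinite P
  have hm : ∃ χ : Cfsg.IrrCharacter P, Cfsg.charDegree (χ : P → ℂ) = p := by
    by_contra hcon
    push Not at hcon
    obtain ⟨a, b, hab⟩ := hP
    refine hab (S4493.comm_of_linear (fun χ => ?_) a b)
    obtain ⟨d, -, hd⟩ := Basic.exists_degree_pos χ
    have := (hcd χ).resolve_right (hcon χ)
    rw [S4493.charDegree_eq χ hd] at this
    rw [hd, this, Nat.cast_one]
  rcases Structure.structure_two_degrees hcd hm hp.ne_one with h | ⟨q, e, hq, hpq, Q, A, hQn, hAn,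
      hQ, hAab, hQA, hsup⟩
  · exact Or.inl h
  haveI := hQn
  haveI := hAn
  have hqp : p = q := by
    have h1 : p ∣ q ^ e := hpq ▸ dvd_rfl
    exact (Nat.prime_dvd_prime_iff_eq hp hq).1 (hp.dvd_of_dvd_pow h1)
  subst hqp
  have hdisj : Disjoint Q A := disjoint_iff.2 hQA
  have hdec : ∀ g : P, ∃ x ∈ Q, ∃ a ∈ A, x * a = g := fun g =>
    Subgroup.mem_sup_of_normal_left.1 (hsup ▸ Subgroup.mem_top g)
  have hcQA : ∀ x ∈ Q, ∀ a ∈ A, Commute x a := fun x hx a ha =>
    Subgroup.commute_of_normal_of_disjoint Q A hQn hAn hdisj x a hx ha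
  have hAc : A ≤ Subgroup.center P := fun a ha => Subgroup.mem_center_iff.2 fun g => by
    obtain ⟨x, hx, a', ha', rfl⟩ := hdec g
    exact ((hcQA x hx a ha).mul_left (hAab a' ha' a ha)).eq
  have hcom : commutator P ≤ Q := by
    rw [commutator_def, Subgroup.commutator_le]
    intro g _ g' _
    rw [← QuotientGroup.eq_one_iff]
    show QuotientGroup.mk' Q ⁅g, g'⁆ = 1
    rw [map_commutatorElement, commutatorElement_eq_one_iff_mul_comm]
    obtain ⟨x, hx, a, ha, rfl⟩ := hdec g
    obtain ⟨x', hx', a', ha', rfl⟩ := hdec g'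
    have e1 : QuotientGroup.mk' Q x = 1 := (QuotientGroup.eq_one_iff x).2 hx
    have e2 : QuotientGroup.mk' Q x' = 1 := (QuotientGroup.eq_one_iff x').2 hx'
    rw [map_mul, map_mul, e1, e2, one_mul, one_mul, ← map_mul, ← map_mul, hAab a ha a' ha']
  have hinj : ∀ g g' : P, ⁅g, g'⁆ ∈ A → g * g' = g' * g := fun g g' h =>
    commutatorElement_eq_one_iff_mul_comm.1 (Subgroup.mem_bot.1 (hQA ▸ Subgroup.mem_inf.2
      ⟨hcom (Subgroup.commutator_mem_commutator (Subgroup.mem_top g) (Subgroup.mem_top g')), h⟩))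
  have hsurj := QuotientGroup.mk'_surjective A
  have hback : ∀ g g' : P, (QuotientGroup.mk' A g) * QuotientGroup.mk' A g' =
      QuotientGroup.mk' A g' * QuotientGroup.mk' A g → g * g' = g' * g := fun g g' h => by
    refine hinj g g' ((QuotientGroup.eq_one_iff _).1 ?_)
    show QuotientGroup.mk' A ⁅g, g'⁆ = 1
    rwa [map_commutatorElement, commutatorElement_eq_one_iff_mul_comm]
  have hpQ : IsPGroup p (P ⧸ A) := hQ.of_surjective ((QuotientGroup.mk' A).comp Q.subtype) fun w => by
    obtain ⟨g, rfl⟩ := hsurj w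
    obtain ⟨x, hx, a, ha, rfl⟩ := hdec g
    exact ⟨⟨x, hx⟩, by
      rw [map_mul, show QuotientGroup.mk' A a = 1 from (QuotientGroup.eq_one_iff a).2 ha, mul_one]
      rfl⟩
  obtain ⟨a, b, hab⟩ := hP
  rcases pgroup_main _ (P ⧸ A) p le_rfl hpQ ⟨_, _, fun h => hab (hback a b h)⟩ (fun φ => by
      obtain ⟨d, -, hd⟩ := Basic.exists_degree_pos φ
      have h1 := hcd ⟨_, Basic.isIrrCharacter_comp (QuotientGroup.mk' A) hsurj φ.2⟩
      rw [S4493.charDegree_eq _ (d := d) (by simpa using hd)] at h1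
      rcases h1 with h | h <;> subst h <;> simp [hd]) with ⟨B, hBi, hBab⟩ | h3
  · left
    refine ⟨B.comap (QuotientGroup.mk' A), ?_, fun x hx y hy => hback x y (hBab _ hx _ hy), by
      rw [Subgroup.index_comap_of_surjective B hsurj, hBi]⟩
    haveI : B.Normal := by
      refine Subgroup.normal_of_index_eq_minFac_card ?_
      obtain ⟨j, hj⟩ := IsPGroup.iff_card.1 hpQ
      rw [hBi, hj, Nat.pow_minFac (fun h => ?_), hp.minFac_eq]
      have := B.index_dvd_card
      rw [hj, h, pow_zero, hBi, Nat.dvd_one] at this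
      exact hp.ne_one this
    exact Subgroup.Normal.comap inferInstance _
  · right
    have : Subgroup.center P = (Subgroup.center (P ⧸ A)).comap (QuotientGroup.mk' A) := by
      ext g
      rw [Subgroup.mem_comap, Subgroup.mem_center_iff, Subgroup.mem_center_iff]
      refine ⟨fun h q => ?_, fun h g' => hback g' g (h _)⟩
      obtain ⟨g', rfl⟩ := hsurj q
      rw [← map_mul, ← map_mul, h g']
    rw [this, Subgroup.index_comap_of_surjective _ hsurj, h3]

end Cfsg.Agent.Lib.Elem70.Degrees.PDegree
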