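import Cfsg.Agent.Lib.PrimeDegrees.Solvable
import Cfsg.Agent.Lib.BlocksChars5.Restrict
import Cfsg.Agent.Lib.Characters.Linear
import Cfsg.Agent.S4493

/-!
# Groups with prime nonlinear degrees have at most three degrees

For a minimal nonabelian quotient `G ⧸ K` the order has at most two prime divisors, and by
Gallagher every nonlinear degree of `G` divides its order.
-/

set_option linter.style.haveILetI false
set_option linter.unusedSectionVars false

namespace Cfsg.Agent.Lib.Elem70.Degrees.PrimeThree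

open scoped commutatorElement
open Cfsg.Agent.Lib
open Cfsg.Agent.Lib.Characters

universe u

variable {G : Type u} [Group G]

theorem centralizer_commutator_eq [Finite G] (hmin : ∀ L : Subgroup G, L.Normal → L ≠ ⊥ → commutator G ≤ L)
    (hab : ∀ a ∈ commutator G, ∀ b ∈ commutator G, a * b = b * a)
    (hZ : ¬ commutator G ≤ Subgroup.center G) :
    Subgroup.centralizer (commutator G : Set G) = commutator G := by
  classical
  set M := commutator G with hM
  set C := Subgroup.centralizer (M : Set G) with hC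
  have hMC : M ≤ C := fun x hx => Subgroup.mem_centralizer_iff.2 fun y hy => hab y hy x hx
  obtain ⟨g, hg⟩ : ∃ g : G, g ∉ C := by
    by_contra h
    push Not at h
    exact hZ fun x hx => Subgroup.mem_center_iff.2 fun y =>
      (Subgroup.mem_centralizer_iff.1 (h y) x hx).symm
  haveI : C.Normal := by rw [hC]; infer_instance
  have hKn : (C ⊓ Subgroup.centralizer ({g} : Set G)).Normal := by
    refine ⟨fun c hc h => ?_⟩
    obtain ⟨hcC, hcg⟩ := Subgroup.mem_inf.1 hc
    refine Subgroup.mem_inf.2 ⟨‹C.Normal›.conj_mem c hcC h, ?_⟩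
    rw [Subgroup.mem_centralizer_singleton_iff] at hcg ⊢
    have hm : ⁅h⁻¹, g⁆ ∈ M :=
      Subgroup.commutator_mem_commutator (Subgroup.mem_top _) (Subgroup.mem_top _)
    have e : h⁻¹ * g * h = ⁅h⁻¹, g⁆ * g := by rw [commutatorElement_def]; group
    have h1 : c * (h⁻¹ * g * h) = (h⁻¹ * g * h) * c := by
      rw [e, ← mul_assoc, ← Subgroup.mem_centralizer_iff.1 hcC _ hm, mul_assoc, hcg, mul_assoc]
    calc h * c * h⁻¹ * g = h * (c * (h⁻¹ * g * h)) * h⁻¹ := by group
      _ = h * ((h⁻¹ * g * h) * c) * h⁻¹ := by rw [h1]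
      _ = g * (h * c * h⁻¹) := by group
  have hKbot : C ⊓ Subgroup.centralizer ({g} : Set G) = ⊥ := by
    by_contra h
    refine hg (Subgroup.mem_centralizer_iff.2 fun y hy => ?_)
    exact Subgroup.mem_centralizer_singleton_iff.1 ((hmin _ hKn h) hy).2
  refine (Subgroup.eq_of_le_of_card_ge hMC ?_).symm
  refine Nat.card_le_card_of_injective
    (fun c : C => (⟨⁅(c : G), g⁆,
      Subgroup.commutator_mem_commutator (Subgroup.mem_top _) (Subgroup.mem_top _)⟩ : M))
    fun a b hab' => ?_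
  have he : ⁅(a : G), g⁆ = ⁅(b : G), g⁆ := congrArg Subtype.val hab'
  rw [commutatorElement_def, commutatorElement_def, mul_left_inj] at he
  have h2 : (b : G)⁻¹ * a ∈ C ⊓ Subgroup.centralizer ({g} : Set G) := by
    refine Subgroup.mem_inf.2 ⟨C.mul_mem (C.inv_mem b.2) a.2, ?_⟩
    rw [Subgroup.mem_centralizer_singleton_iff]
    calc (b : G)⁻¹ * a * g = (b : G)⁻¹ * ((a : G) * g * (a : G)⁻¹) * a := by group
      _ = (b : G)⁻¹ * ((b : G) * g * (b : G)⁻¹) * a := by rw [he]
      _ = g * ((b : G)⁻¹ * a) := by group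
  rw [hKbot, Subgroup.mem_bot, inv_mul_eq_one] at h2
  exact Subtype.ext h2.symm

/-- A minimal nonabelian group with prime degrees has order divisible by at most two primes. -/
theorem card_primeFactors_le [Finite G] (hsol : Group.IsSolvable G)
    (hna : commutator G ≠ ⊥)
    (hmin : ∀ L : Subgroup G, L.Normal → L ≠ ⊥ → commutator G ≤ L)
    (hdeg : ∀ χ : Cfsg.IrrCharacter G, Cfsg.charDegree (χ : G → ℂ) = 1 ∨
      (Cfsg.charDegree (χ : G → ℂ)).Prime) :
    (Nat.card G).primeFactors.card ≤ 2 := by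
  classical
  haveI := hsol
  haveI : Nontrivial G := by
    by_contra h
    haveI := not_nontrivial_iff_subsingleton.1 h
    exact hna (Subsingleton.elim _ _)
  by_cases hZ : commutator G ≤ Subgroup.center G
  · -- nilpotent: a single prime
    haveI : Group.IsNilpotent G := by
      have hc : ∀ a b : G ⧸ Subgroup.center G, a * b = b * a := by
        intro a b
        obtain ⟨x, rfl⟩ := QuotientGroup.mk'_surjective _ a
        obtain ⟨y, rfl⟩ := QuotientGroup.mk'_surjective _ b
        rw [← commutatorElement_eq_one_iff_mul_comm, ← map_commutatorElement,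
          QuotientGroup.mk'_apply, QuotientGroup.eq_one_iff]
        exact hZ (Subgroup.commutator_mem_commutator (Subgroup.mem_top _) (Subgroup.mem_top _))
      letI : CommGroup (G ⧸ Subgroup.center G) := { (inferInstance : Group _) with mul_comm := hc }
      exact Group.of_quotient_center_nilpotent inferInstance
    refine le_trans (Finset.card_le_one.2 fun p hp q hq => ?_) one_le_two
    by_contra hpq
    rw [Nat.mem_primeFactors] at hp hq
    haveI := Fact.mk hp.1
    haveI := Fact.mk hq.1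
    obtain ⟨P⟩ : Nonempty (Sylow p G) := inferInstance
    obtain ⟨Q⟩ : Nonempty (Sylow q G) := inferInstance
    have hn : ∀ (r : ℕ) [Fact r.Prime] (R : Sylow r G), (R : Subgroup G).Normal := by
      intro r _ R
      have h03 : Group.IsNilpotent G ↔
          ∀ (p : ℕ) (_ : Fact p.Prime) (P : Sylow p G), (P : Subgroup G).Normal :=
        (Group.isNilpotent_of_finite_tfae (G := G)).out 0 3
      exact h03.1 inferInstance r inferInstance R
    have hP : (P : Subgroup G) ≠ ⊥ := P.ne_bot_of_dvd_card hp.2.1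
    have hQ : (Q : Subgroup G) ≠ ⊥ := Q.ne_bot_of_dvd_card hq.2.1
    exact hna (le_bot_iff.1 ((le_inf (hmin _ (hn p P) hP) (hmin _ (hn q Q) hQ)).trans
      (IsPGroup.disjoint_of_ne p q hpq _ _ P.isPGroup' Q.isPGroup').le_bot))
  -- Frobenius type
  set M := commutator G with hM
  have hlt : M ≠ ⊤ := fun h =>
    (Group.IsSolvable.commutator_lt_top_of_nontrivial G).ne h
  have hab : ∀ a ∈ M, ∀ b ∈ M, a * b = b * a := by
    have hMM : ⁅M, M⁆ = ⊥ := by
      by_contra h
      exact (Group.IsSolvable.commutator_lt_of_ne_bot hna).not_ge (hmin _ inferInstance h)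
    intro a ha b hb
    rw [← commutatorElement_eq_one_iff_mul_comm]
    exact (Subgroup.mem_bot).1 (hMM ▸ Subgroup.commutator_mem_commutator ha hb)
  -- `M` is an `r`-group
  have h1M : 1 < Nat.card M := (Subgroup.one_lt_card_iff_ne_bot M).2 hna
  set r := (Nat.card M).minFac with hr
  have hrp : r.Prime := Nat.minFac_prime (by omega)
  haveI := Fact.mk hrp
  let W : Subgroup G :=
    { carrier := {x | x ∈ M ∧ x ^ r = 1}
      one_mem' := ⟨M.one_mem, one_pow r⟩
      mul_mem' := fun {a b} ha hb => ⟨M.mul_mem ha.1 hb.1, by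
        rw [(show Commute a b from hab a ha.1 b hb.1).mul_pow, ha.2, hb.2, one_mul]⟩
      inv_mem' := fun {a} ha => ⟨M.inv_mem ha.1, by rw [inv_pow, ha.2, inv_one]⟩ }
  have hWn : W.Normal := ⟨fun x hx g =>
    ⟨(inferInstance : M.Normal).conj_mem x hx.1 g, by rw [conj_pow, hx.2, mul_one, mul_inv_cancel]⟩⟩
  have hWb : W ≠ ⊥ := by
    obtain ⟨x, hx⟩ := exists_prime_orderOf_dvd_card' (G := M) r (Nat.minFac_dvd _)
    intro h
    have hxW : (x : G) ∈ W := ⟨x.2, by
      rw [← Subgroup.orderOf_coe] at hx; rw [← hx]; exact pow_orderOf_eq_one _⟩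
    rw [h, Subgroup.mem_bot] at hxW
    rw [← Subgroup.orderOf_coe, hxW, orderOf_one] at hx
    exact hrp.ne_one hx.symm
  have hexp : IsPGroup r M := fun x => ⟨1, by
    rw [pow_one]; exact Subtype.ext ((hmin W hWn hWb) x.2).2⟩
  obtain ⟨a, ha⟩ := IsPGroup.iff_card.1 hexp
  have hC := centralizer_commutator_eq hmin hab hZ
  -- the index is a prime
  haveI := Fintype.ofFinite G
  haveI := Fintype.ofFinite M
  obtain ⟨θ, hθ⟩ : ∃ θ : Cfsg.IrrCharacter M, θ ≠ Basic.oneChar M := by
    by_contra h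
    push Not at h
    obtain ⟨⟨x, hx⟩, hx1⟩ : ∃ x : M, x ≠ 1 := M.ne_bot_iff_exists_ne_one.1 hna
    exact hx1 (Complete.eq_one_of_forall_irr fun χ => by
      rw [h χ, Basic.oneChar_apply, Basic.oneChar_apply])
  have hθ1 : (θ : M → ℂ) 1 = 1 :=
    Linear.degree_eq_one_of_comm (fun x y => Subtype.ext (hab x x.2 y y.2)) θ
  set T := Clifford.Basic.inertia M (θ : M → ℂ) with hT
  have hMT : M ≤ T := Clifford.Basic.le_inertia M (Basic.isClassFunction_irr θ)
  haveI hTn : T.Normal := ⟨fun t ht g => by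
    have e : g * t * g⁻¹ = ⁅g, t⁆ * t := by rw [commutatorElement_def]; group
    rw [e]
    exact T.mul_mem (hMT (Subgroup.commutator_mem_commutator (Subgroup.mem_top _)
      (Subgroup.mem_top _))) ht⟩
  have hTC : T ≤ Subgroup.centralizer (M : Set G) := by
    intro t ht
    by_contra hnot
    apply hθ
    have hker : ∀ (s : G), s ∈ T → ∀ x : M, (θ : M → ℂ) ⟨⁅s, (x : G)⁆,
        Subgroup.commutator_mem_commutator (Subgroup.mem_top _) (Subgroup.mem_top _)⟩ = 1 := by
      intro s hs x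
      have hs' := Clifford.Basic.mem_inertia M |>.1 hs
      have h2 := congrFun hs' x
      rw [Clifford.Basic.conjC_apply] at h2
      have e : (⟨⁅s, (x : G)⁆, Subgroup.commutator_mem_commutator (Subgroup.mem_top _)
          (Subgroup.mem_top _)⟩ : M) =
          ⟨s * x * s⁻¹, (inferInstance : M.Normal).conj_mem _ x.2 s⟩ * x⁻¹ :=
        Subtype.ext (by simp [commutatorElement_def])
      rw [e, Linear.apply_mul_of_degree_one (Basic.isCharacter_irr θ) hθ1, h2,
        ← Linear.apply_mul_of_degree_one (Basic.isCharacter_irr θ) hθ1, mul_inv_cancel, hθ1]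
    have hb : ⁅T, M⁆ ≠ ⊥ := fun h => hnot (Subgroup.mem_centralizer_iff.2 fun y hy =>
      (commutatorElement_eq_one_iff_mul_comm.1
        ((Subgroup.mem_bot).1 (h ▸ Subgroup.commutator_mem_commutator ht hy))).symm)
    have hle := hmin _ inferInstance hb
    apply Subtype.ext
    funext x
    rw [Basic.oneChar_apply]
    let L : Subgroup G :=
      { carrier := {y | ∃ hy : y ∈ M, (θ : M → ℂ) ⟨y, hy⟩ = 1}
        one_mem' := ⟨M.one_mem, hθ1⟩
        mul_mem' := fun {a b} ⟨ha, ha'⟩ ⟨hb, hb'⟩ => ⟨M.mul_mem ha hb, by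
          rw [show (⟨a * b, _⟩ : M) = ⟨a, ha⟩ * ⟨b, hb⟩ from rfl,
            Linear.apply_mul_of_degree_one (Basic.isCharacter_irr θ) hθ1, ha', hb', mul_one]⟩
        inv_mem' := fun {a} ⟨ha, ha'⟩ => ⟨M.inv_mem ha, by
          have := Linear.apply_mul_of_degree_one (Basic.isCharacter_irr θ) hθ1 ⟨a, ha⟩
            ⟨a⁻¹, M.inv_mem ha⟩
          rw [show (⟨a, ha⟩ : M) * ⟨a⁻¹, M.inv_mem ha⟩ = 1 from Subtype.ext (mul_inv_cancel a),
            hθ1, ha', one_mul] at this
          exact this.symm⟩ }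
    have : ⁅T, M⁆ ≤ L := Subgroup.commutator_le.2 fun s hs y hy => ⟨_, hker s hs ⟨y, hy⟩⟩
    obtain ⟨_, h3⟩ := this (hle x.2)
    exact h3
  have hTM : T = M := le_antisymm (hTC.trans hC.le) hMT
  obtain ⟨χ, hχ⟩ := PrimeDegrees.Solvable.exists_above M θ
  have hcl := Clifford.Basic.clifford_degree M χ.2 θ hχ
  obtain ⟨e, he⟩ := Basic.exists_classInner_nat
    (Basic.isCharacter_comp M.subtype (Basic.isCharacter_irr χ)) (Basic.isCharacter_irr θ)
  rw [show (fun n : M => (χ : G → ℂ) n) = (χ : G → ℂ) ∘ M.subtype from rfl, he, hθ1, mul_one,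
    BlocksChars5.Basic.apply_one, ← hT, hTM, ← Nat.cast_mul, Nat.cast_inj] at hcl
  have hidx : M.index.Prime := by
    have hi1 : M.index ≠ 1 := fun h => hlt (Subgroup.index_eq_one.1 h)
    have hdvd : M.index ∣ Cfsg.charDegree (χ : G → ℂ) := hcl ▸ dvd_mul_left _ _
    rcases hdeg χ with h | h
    · exact absurd (Nat.dvd_one.1 (h ▸ hdvd)) hi1
    · exact ((Nat.dvd_prime h).1 hdvd).resolve_left hi1 ▸ h
  refine le_trans (Finset.card_le_card (t := {r, M.index}) fun p hp => ?_) Finset.card_le_two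
  rw [Nat.mem_primeFactors] at hp
  rw [Finset.mem_insert, Finset.mem_singleton]
  have h2 : p ∣ r ^ a * M.index := by rw [← ha, M.card_mul_index]; exact hp.2.1
  rcases hp.1.dvd_mul.1 h2 with h | h
  · exact Or.inl ((Nat.prime_dvd_prime_iff_eq hp.1 hrp).1 (hp.1.dvd_of_dvd_pow h))
  · exact Or.inr ((Nat.prime_dvd_prime_iff_eq hp.1 hidx).1 h)

/-- At most three degrees. -/
theorem card_le_three [Finite G]
    (hdeg : ∀ χ : Cfsg.IrrCharacter G, Cfsg.charDegree (χ : G → ℂ) = 1 ∨
      (Cfsg.charDegree (χ : G → ℂ)).Prime) :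
    ∃ s : Finset ℕ, s.card ≤ 3 ∧ ∀ χ : Cfsg.IrrCharacter G, Cfsg.charDegree (χ : G → ℂ) ∈ s := by
  classical
  by_cases hna : commutator G = ⊥
  · refine ⟨{1}, by simp, fun χ => ?_⟩
    rw [Finset.mem_singleton]
    refine S4493.charDegree_eq χ ?_
    rw [Nat.cast_one]
    exact Linear.degree_eq_one_of_comm (fun a b => commutatorElement_eq_one_iff_mul_comm.1
      (Subgroup.mem_bot.1 (hna ▸ Subgroup.commutator_mem_commutator (Subgroup.mem_top a)
        (Subgroup.mem_top b)))) χ
  obtain ⟨K, -, hK⟩ := (Set.toFinite {K : Subgroup G | K.Normal ∧ ¬ commutator G ≤ K}).exists_le_maximal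
    (show (⊥ : Subgroup G) ∈ _ from ⟨inferInstance, fun h => hna (le_bot_iff.1 h)⟩)
  obtain ⟨hKn, hKc⟩ := hK.1
  haveI := hKn
  have hsol : Group.IsSolvable G := PrimeDegrees.Solvable.isSolvable _ G le_rfl
    fun χ h => (hdeg χ).resolve_left h
  haveI := hsol
  have hmap : commutator (G ⧸ K) = (commutator G).map (QuotientGroup.mk' K) := by
    rw [commutator_def, commutator_def, Subgroup.map_commutator,
      Subgroup.map_top_of_surjective _ (QuotientGroup.mk'_surjective K)]
  have hna' : commutator (G ⧸ K) ≠ ⊥ := by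
    rw [hmap, Ne, Subgroup.map_eq_bot_iff, QuotientGroup.ker_mk']
    exact hKc
  have hmin : ∀ L : Subgroup (G ⧸ K), L.Normal → L ≠ ⊥ → commutator (G ⧸ K) ≤ L := by
    intro L hL hne
    rw [hmap, Subgroup.map_le_iff_le_comap]
    by_contra h
    have hle : L.comap (QuotientGroup.mk' K) ≤ K :=
      hK.2 ⟨hL.comap _, h⟩ fun x hx => by
        rw [Subgroup.mem_comap, QuotientGroup.mk'_apply, (QuotientGroup.eq_one_iff x).2 hx]
        exact L.one_mem
    refine hne (le_bot_iff.1 fun y hy => ?_)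
    obtain ⟨x, rfl⟩ := QuotientGroup.mk'_surjective K y
    rw [Subgroup.mem_bot, QuotientGroup.mk'_apply, QuotientGroup.eq_one_iff]
    exact hle hy
  have hinfl : ∀ φ : Cfsg.IrrCharacter (G ⧸ K), ∃ χ : Cfsg.IrrCharacter G,
      Cfsg.charDegree (χ : G → ℂ) = Cfsg.charDegree (φ : G ⧸ K → ℂ) ∧ K ≤ BlocksChars5.Basic.charKer χ := by
    intro φ
    refine ⟨⟨_, Basic.isIrrCharacter_comp (QuotientGroup.mk' K) (QuotientGroup.mk'_surjective K) φ.2⟩,
      by simp [Cfsg.charDegree], fun x hx => ?_⟩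
    show (φ : G ⧸ K → ℂ) (QuotientGroup.mk' K x) = (φ : G ⧸ K → ℂ) (QuotientGroup.mk' K 1)
    rw [QuotientGroup.mk'_apply, (QuotientGroup.eq_one_iff x).2 hx, map_one]
  have hpf : (Nat.card (G ⧸ K)).primeFactors.card ≤ 2 :=
    card_primeFactors_le (Group.isSolvable_of_surjective (QuotientGroup.mk'_surjective K)) hna' hmin
      fun φ => by
        obtain ⟨χ, hχ, -⟩ := hinfl φ
        rw [← hχ]; exact hdeg χ
  refine ⟨insert 1 (Nat.card (G ⧸ K)).primeFactors,
    (Finset.card_insert_le _ _).trans (Nat.succ_le_succ hpf), fun χ => ?_⟩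
  rcases hdeg χ with h | h
  · rw [h]; exact Finset.mem_insert_self _ _
  refine Finset.mem_insert_of_mem (Nat.mem_primeFactors.2 ⟨h, ?_, Nat.card_pos.ne'⟩)
  by_contra hndvd
  haveI := Fintype.ofFinite G
  haveI := Fintype.ofFinite K
  obtain ⟨φ, hφ⟩ : ∃ φ : Cfsg.IrrCharacter (G ⧸ K), Cfsg.charDegree (φ : G ⧸ K → ℂ) ≠ 1 := by
    by_contra hall
    push Not at hall
    apply hna'
    rw [← le_bot_iff, commutator_def, Subgroup.commutator_le]
    intro a _ b _
    rw [Subgroup.mem_bot, commutatorElement_eq_one_iff_mul_comm]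
    exact S4493.comm_of_linear (fun θ => by
      rw [BlocksChars5.Basic.apply_one, hall θ, Nat.cast_one]) a b
  obtain ⟨β, hβ, hker⟩ := hinfl φ
  have hres := BlocksChars5.Restrict.restrict_irr_of_coprime K χ
    ((Nat.Prime.coprime_iff_not_dvd h).2 (by rw [Subgroup.index_eq_card]; exact hndvd))
  have hirr := BlocksChars5.Restrict.mul_irr_of_restrict_irr K χ β hres hker
  have hd : Cfsg.charDegree ((β : G → ℂ) * (χ : G → ℂ)) =
      Cfsg.charDegree (β : G → ℂ) * Cfsg.charDegree (χ : G → ℂ) :=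
    S4493.charDegree_eq ⟨_, hirr⟩ (by
      show ((β : G → ℂ) * (χ : G → ℂ)) 1 = _
      rw [Pi.mul_apply, BlocksChars5.Basic.apply_one, BlocksChars5.Basic.apply_one, Nat.cast_mul])
  have hb1 : Cfsg.charDegree (β : G → ℂ) ≠ 1 := hβ ▸ hφ
  rcases hdeg ⟨_, hirr⟩ with h' | h' <;> rw [show ((⟨_, hirr⟩ : Cfsg.IrrCharacter G) : G → ℂ) =
    (β : G → ℂ) * (χ : G → ℂ) from rfl, hd] at h'
  · exact h.ne_one (Nat.eq_one_of_mul_eq_one_left h')
  · exact Nat.not_prime_mul hb1 h.ne_one h'

end Cfsg.Agent.Lib.Elem70.Degrees.PrimeThree
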