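import Cfsg.Agent.Lib.Elem70.Degrees.TwoDegrees
import Cfsg.Agent.Lib.Clifford.Linear
import Mathlib.GroupTheory.SchurZassenhaus

/-!
# The structure of groups with two character degrees
-/

set_option linter.style.haveILetI false

namespace Cfsg.Agent.Lib.Elem70.Degrees.Structure

open scoped commutatorElement
open Cfsg.Agent.Lib
open Cfsg.Agent.Lib.Induced.Basic
open Cfsg.Agent.Lib.Characters

universe u

variable {G : Type u} [Group G] (H : Subgroup G) [H.Normal]

/-- The conjugate of a linear character of a normal subgroup. -/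
def cj (g : G) (lam : H →* ℂˣ) : H →* ℂˣ := lam.comp (MulAut.conjNormal g).toMonoidHom

theorem cj_apply (g : G) (lam : H →* ℂˣ) (h : H) :
    cj H g lam h = lam (MulAut.conjNormal g h) := rfl

theorem cj_one (lam : H →* ℂˣ) : cj H 1 lam = lam := by
  ext h; simp [cj_apply]

theorem cj_cj (a b : G) (lam : H →* ℂˣ) : cj H a (cj H b lam) = cj H (b * a) lam := by
  ext h; simp [cj_apply, map_mul]

theorem cj_mul (g : G) (a b : H →* ℂˣ) : cj H g (a * b) = cj H g a * cj H g b := rfl

/-- The stabiliser of a linear character of a normal subgroup. -/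
def stab (lam : H →* ℂˣ) : Subgroup G where
  carrier := {g | cj H g lam = lam}
  one_mem' := cj_one H lam
  mul_mem' := fun {a b} (ha : cj H a lam = lam) (hb : cj H b lam = lam) => by
    show cj H (a * b) lam = lam
    rw [← cj_cj, ha, hb]
  inv_mem' := fun {a} (ha : cj H a lam = lam) => by
    show cj H a⁻¹ lam = lam
    conv_lhs => rw [← ha, cj_cj, mul_inv_cancel, cj_one]

theorem mem_stab {lam : H →* ℂˣ} {g : G} : g ∈ stab H lam ↔ cj H g lam = lam := Iff.rfl

theorem conjC_linChar (lam : H →* ℂˣ) (g : G) :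
    Clifford.Basic.conjC H g (Linear.linChar lam : H → ℂ) = fun h => (cj H g lam h : ℂ) := rfl

theorem inertia_linChar (lam : H →* ℂˣ) :
    Clifford.Basic.inertia H (Linear.linChar lam : H → ℂ) = stab H lam := by
  ext g
  rw [Clifford.Basic.mem_inertia, conjC_linChar, mem_stab]
  exact ⟨fun h => MonoidHom.ext fun x => Units.ext (congrFun h x), fun h => by rw [h]; rfl⟩

theorem le_stab (hab : ∀ a ∈ H, ∀ b ∈ H, a * b = b * a) (lam : H →* ℂˣ) : H ≤ stab H lam := by
  intro a ha
  rw [mem_stab]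
  ext h
  rw [cj_apply]
  congr 2
  apply Subtype.ext
  rw [MulAut.conjNormal_apply, hab a ha _ h.2, mul_inv_cancel_right]

variable [Fintype G]

/-- The linear character is invariant when it lies under a linear character. -/
theorem stab_eq_top_of_linear_above (lam : H →* ℂˣ) (χ : Cfsg.IrrCharacter G)
    (h1 : (χ : G → ℂ) 1 = 1) [Fintype H]
    (h : Cfsg.classInner (fun n : H => (χ : G → ℂ) n) (Linear.linChar lam : H → ℂ) ≠ 0) :
    stab H lam = ⊤ := by
  have heq : (fun n : H => (χ : G → ℂ) n) = (Linear.linChar lam : H → ℂ) := by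
    have hirr : Cfsg.IsIrrCharacter H (fun n : H => (χ : G → ℂ) n) :=
      Basic.isIrrCharacter_of_degree_one
        (Basic.isCharacter_comp H.subtype (Basic.isCharacter_irr χ)) (by simpa using h1)
    by_contra hne
    exact h (Basic.classInner_irr_of_ne (χ := ⟨_, hirr⟩) (ψ := Linear.linChar lam)
      fun e => hne (congrArg Subtype.val e))
  refine eq_top_iff.2 fun g _ => ?_
  rw [← inertia_linChar, Clifford.Basic.mem_inertia, ← heq]
  exact Clifford.Basic.conjC_restrict H (Basic.isClassFunction_irr χ) g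

variable {m : ℕ}

/-- A proper stabiliser has index `m`. -/
theorem index_stab (hm2 : 2 ≤ m) (hab : ∀ a ∈ H, ∀ b ∈ H, a * b = b * a)
    (hcop : (Nat.card H).Coprime H.index)
    (hdeg : ∀ (χ : Cfsg.IrrCharacter G) (d : ℕ), (χ : G → ℂ) 1 = d → d = 1 ∨ d = m)
    (lam : H →* ℂˣ) (hne : stab H lam ≠ ⊤) :
    (stab H lam).index = m ∧ commutator G ≤ stab H lam := by
  classical
  haveI : Fintype H := Fintype.ofFinite H
  set S := stab H lam with hS
  have hlow : ∀ χ : Cfsg.IrrCharacter G, ∀ d : ℕ, (χ : G → ℂ) 1 = d → d < m → d = 1 :=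
    fun χ d hd hlt => (hdeg χ d hd).resolve_right hlt.ne
  obtain ⟨χ, hχ⟩ := PrimeDegrees.Solvable.exists_above H (Linear.linChar lam)
  obtain ⟨d, hd0, hd⟩ := Basic.exists_degree_pos χ
  have hdm : d = m := by
    rcases hdeg χ d hd with h | h
    · exact absurd (stab_eq_top_of_linear_above H lam χ (by rw [hd, h, Nat.cast_one]) hχ) hne
    · exact h
  obtain ⟨e, he⟩ := Basic.exists_classInner_nat
    (Basic.isCharacter_comp H.subtype (Basic.isCharacter_irr χ))
    (Basic.isCharacter_irr (Linear.linChar lam))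
  have hcl := Clifford.Basic.clifford_degree H χ.2 (Linear.linChar lam) hχ
  rw [show (fun n : H => (χ : G → ℂ) n) = (χ : G → ℂ) ∘ H.subtype from rfl, he, inertia_linChar,
    hd, Linear.linChar_apply, map_one, Units.val_one, mul_one, ← hS] at hcl
  have hdvd : S.index ∣ m := ⟨e, by
    have : (d : ℂ) = ((e * S.index : ℕ) : ℂ) := by rw [hcl, Nat.cast_mul]
    rw [← hdm, mul_comm]
    exact_mod_cast this⟩
  have hcomm : commutator G ≤ S :=
    TwoDegrees.commutator_le_of_index_le hlow S (Nat.le_of_dvd (by omega) hdvd)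
  refine ⟨?_, hcomm⟩
  by_contra hi
  have hlt : S.index < m := lt_of_le_of_ne (Nat.le_of_dvd (by omega) hdvd) hi
  -- extend to the stabiliser
  have hHS : H ≤ S := le_stab H hab lam
  let eH : H.subgroupOf S ≃* H := Subgroup.subgroupOfEquivOfLe hHS
  have hord : orderOf (lam.comp eH.toMonoidHom) ∣ Nat.card H := by
    refine orderOf_dvd_of_pow_eq_one (MonoidHom.ext fun x => ?_)
    rw [MonoidHom.pow_apply, MonoidHom.comp_apply, ← map_pow]
    show lam (eH x ^ Nat.card H) = 1
    rw [pow_card_eq_one', map_one]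
  have hidx : (H.subgroupOf S).index ∣ H.index := ⟨S.index, (Subgroup.relIndex_mul_index hHS).symm⟩
  obtain ⟨μ, hμ, -⟩ := Clifford.Linear.exists_coprime_extension (H.subgroupOf S)
    (lam.comp eH.toMonoidHom) (fun g n => by
      have h1 : cj H (g : G) lam = lam := g.2
      have h2 := DFunLike.congr_fun h1 (eH n)
      rw [cj_apply] at h2
      refine Eq.trans ?_ h2
      show lam _ = lam _
      congr 1)
    ((hcop.symm.coprime_dvd_left hidx).coprime_dvd_right hord)
  haveI : Fintype S := Fintype.ofFinite S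
  set π : G → ℂ := Cfsg.indFun S (Linear.linChar μ : S → ℂ)
  have hπ : Cfsg.IsCharacter G π :=
    Induced.Character.isCharacter_indFun S (Basic.isCharacter_irr _)
  have hπ1 : π 1 = (S.index : ℂ) := by
    show Cfsg.indFun S _ 1 = _
    rw [indFun_one, Linear.linChar_apply, map_one, Units.val_one, mul_one]
  obtain ⟨ψ, hψ⟩ := Clifford.Basic.exists_constituent hπ fun h => by
    rw [h, Pi.zero_apply] at hπ1
    exact Nat.cast_ne_zero.2 Subgroup.index_ne_zero_of_finite hπ1.symm
  obtain ⟨d', hd'0, hd'⟩ := Basic.exists_degree_pos ψ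
  have hd'1 : d' = 1 := by
    obtain ⟨k, r, hr, hk, -, hdec⟩ := Clifford.Basic.exists_eq_nsmul_add hπ ψ
    obtain ⟨n, hn⟩ := Basic.exists_degree hr
    have hk0 : k ≠ 0 := fun h0 => hψ (by rw [hk, h0, Nat.cast_zero])
    have h1 := congrFun hdec 1
    rw [hπ1, Pi.add_apply, Pi.smul_apply, hd', hn, nsmul_eq_mul] at h1
    have h2 : S.index = k * d' + n := by exact_mod_cast h1
    have h3 : d' ≤ k * d' := Nat.le_mul_of_pos_left _ (Nat.pos_of_ne_zero hk0)
    exact hlow ψ d' hd' (by omega)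
  subst hd'1
  refine hne (stab_eq_top_of_linear_above H lam ψ (by simpa using hd') ?_)
  rw [frobenius_reciprocity S _ (Basic.isClassFunction_irr ψ)] at hψ
  have heq : (Linear.linChar μ : S → ℂ) = fun s : S => (ψ : G → ℂ) s := by
    have hirr : Cfsg.IsIrrCharacter S (fun s : S => (ψ : G → ℂ) s) :=
      Basic.isIrrCharacter_of_degree_one
        (Basic.isCharacter_comp S.subtype (Basic.isCharacter_irr ψ)) (by simpa using hd')
    by_contra hne'
    exact hψ (Basic.classInner_irr_of_ne (χ := Linear.linChar μ) (ψ := ⟨_, hirr⟩)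
      fun e => hne' (congrArg Subtype.val e))
  have hres : (fun n : H => (ψ : G → ℂ) n) = (Linear.linChar lam : H → ℂ) := by
    funext n
    have h1 := congrFun heq ⟨(n : G), hHS n.2⟩
    rw [Linear.linChar_apply] at h1
    rw [← h1, Linear.linChar_apply]
    exact congrArg Units.val (hμ ⟨⟨(n : G), hHS n.2⟩, n.2⟩)
  rw [hres, Basic.classInner_self_irr]
  exact one_ne_zero

/-- All proper stabilisers coincide. -/
theorem stab_unique (hm2 : 2 ≤ m) (hab : ∀ a ∈ H, ∀ b ∈ H, a * b = b * a)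
    (hcop : (Nat.card H).Coprime H.index)
    (hdeg : ∀ (χ : Cfsg.IrrCharacter G) (d : ℕ), (χ : G → ℂ) 1 = d → d = 1 ∨ d = m)
    (lam mu : H →* ℂˣ) (hlam : stab H lam ≠ ⊤) (hmu : stab H mu ≠ ⊤) :
    stab H lam = stab H mu := by
  classical
  obtain ⟨K, hK⟩ := Subgroup.exists_right_complement'_of_coprime hcop
  obtain ⟨hi1, hc1⟩ := index_stab H hm2 hab hcop hdeg lam hlam
  obtain ⟨hi2, -⟩ := index_stab H hm2 hab hcop hdeg mu hmu
  set S := stab H lam with hS
  haveI hSn : S.Normal := Subgroup.Normal.of_commutator_le (h := hc1)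
  let T : Subgroup G := S ⊓ K
  haveI : Fintype T := Fintype.ofFinite T
  set n := Fintype.card T with hn
  have hncop : (Nat.card H).Coprime n := by
    refine hcop.coprime_dvd_right ?_
    rw [hn, ← Nat.card_eq_fintype_card, hK.symm.index_eq_card]
    exact Subgroup.card_dvd_of_le inf_le_right
  have hsplit : ∀ g : G, ∃ h ∈ H, ∃ k ∈ K, h * k = g := fun g => by
    obtain ⟨⟨⟨h, hh⟩, ⟨k, hk⟩⟩, hg⟩ := hK.surjective g
    exact ⟨h, hh, k, hk, hg⟩
  -- injectivity of the power map
  have hpow : ∀ a b : H →* ℂˣ, a ^ n = b ^ n → a = b := by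
    intro a b hab'
    ext x
    obtain ⟨y, rfl⟩ : ∃ y : H, y ^ n = x :=
      (powCoprime hncop).surjective x
    rw [map_pow, map_pow, ← MonoidHom.pow_apply, ← MonoidHom.pow_apply, hab']
  -- the norm
  let Nm : (H →* ℂˣ) → (H →* ℂˣ) := fun a => ∏ t : T, cj H (t : G) a
  have cj_prod : ∀ (g : G) (f : T → (H →* ℂˣ)), cj H g (∏ t, f t) = ∏ t, cj H g (f t) := by
    intro g f
    exact map_prod ({ toFun := cj H g, map_one' := rfl, map_mul' := cj_mul H g } :
      (H →* ℂˣ) →* (H →* ℂˣ)) f Finset.univ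
  have hNmul : ∀ a b, Nm (a * b) = Nm a * Nm b := fun a b => by
    simp only [Nm, cj_mul, Finset.prod_mul_distrib]
  have hNfix : ∀ a, (∀ t : T, cj H (t : G) a = a) → Nm a = a ^ n := fun a ha => by
    simp only [Nm, ha, Finset.prod_const, Finset.card_univ, hn]
  have hNT : ∀ a (s : T), cj H (s : G) (Nm a) = Nm a := fun a s => by
    simp only [Nm, cj_prod, cj_cj]
    exact Fintype.prod_equiv (Equiv.mulRight s) _ _ fun t => rfl
  have hNK : ∀ a, ∀ k ∈ K, cj H k (Nm a) = Nm (cj H k a) := fun a k hk => by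
    simp only [Nm, cj_prod, cj_cj]
    have hT : ∀ t : T, k⁻¹ * (t : G) * k ∈ T := fun t =>
      Subgroup.mem_inf.2 ⟨by simpa using hSn.conj_mem _ (Subgroup.mem_inf.1 t.2).1 k⁻¹,
        K.mul_mem (K.mul_mem (K.inv_mem hk) (Subgroup.mem_inf.1 t.2).2) hk⟩
    have hT' : ∀ t : T, k * (t : G) * k⁻¹ ∈ T := fun t =>
      Subgroup.mem_inf.2 ⟨hSn.conj_mem _ (Subgroup.mem_inf.1 t.2).1 k,
        K.mul_mem (K.mul_mem hk (Subgroup.mem_inf.1 t.2).2) (K.inv_mem hk)⟩
    refine Fintype.prod_equiv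
      ⟨fun t => ⟨_, hT t⟩, fun t => ⟨_, hT' t⟩, fun t => Subtype.ext (by simp [mul_assoc]),
        fun t => Subtype.ext (by simp [mul_assoc])⟩ _ _ fun t => ?_
    show cj H ((t : G) * k) a = cj H (k * (k⁻¹ * (t : G) * k)) a
    congr 1
    group
  have hlamT : ∀ t : T, cj H (t : G) lam = lam := fun t => (Subgroup.mem_inf.1 t.2).1
  set mu2 := mu ^ n * (Nm mu)⁻¹ with hmu2
  have hN1 : Nm mu2 = 1 := by
    have hNpow : ∀ j : ℕ, Nm (mu ^ j) = Nm mu ^ j := by
      intro j
      induction j with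
      | zero =>
        refine (congrArg Nm (pow_zero mu)).trans ((hNfix 1 fun t => rfl).trans ?_)
        ext x; simp
      | succ j ih =>
        refine (congrArg Nm (pow_succ mu j)).trans ?_
        rw [hNmul, ih]
        ext x; simp [pow_succ]
    have hinv : Nm ((Nm mu)⁻¹) = ((Nm mu)⁻¹) ^ n := hNfix _ fun t => by
      ext x
      simp only [cj_apply, MonoidHom.inv_apply]
      rw [← cj_apply, hNT mu t]
    rw [hmu2, hNmul, hNpow, hinv]
    ext x; simp
  set nu := lam * mu2 with hnu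
  -- the stabiliser of the product
  have hsub : ∀ g ∈ stab H nu, g ∈ S ∧ g ∈ stab H mu2 := by
    intro g hg
    obtain ⟨h, hh, k, hk, rfl⟩ := hsplit g
    have hk' : k ∈ stab H nu := ((stab H nu).mul_mem_cancel_left (le_stab H hab nu hh)).1 hg
    have h1 : Nm (cj H k nu) = Nm nu := by rw [(mem_stab H).1 hk']
    rw [← hNK nu k hk, hnu, hNmul, hN1] at h1
    erw [mul_one] at h1
    rw [hNfix lam hlamT] at h1
    have h2 : cj H k lam = lam := hpow _ _ (by
      rw [← h1]
      ext x; simp [cj_apply])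
    refine ⟨S.mul_mem (le_stab H hab lam hh) h2,
      (stab H mu2).mul_mem (le_stab H hab mu2 hh) ?_⟩
    have h3 : cj H k nu = nu := hk'
    rw [hnu, cj_mul, h2] at h3
    exact mul_left_cancel h3
  have hnu_ne : stab H nu ≠ ⊤ := fun h => hlam (eq_top_iff.2 fun g _ =>
    (hsub g (h ▸ Subgroup.mem_top g)).1)
  have heq : stab H nu = S := by
    refine le_antisymm (fun g hg => (hsub g hg).1) ?_
    obtain ⟨hi3, -⟩ := index_stab H hm2 hab hcop hdeg nu hnu_ne
    have h := Subgroup.relIndex_mul_index (show stab H nu ≤ S from fun g hg => (hsub g hg).1)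
    rw [hi3, hi1] at h
    exact Subgroup.relIndex_eq_one.1 (Nat.eq_of_mul_eq_mul_right (by omega)
      (h.trans (one_mul m).symm))
  have hmuT : ∀ t : T, cj H (t : G) mu = mu := fun t => by
    have h1 : cj H (t : G) mu2 = mu2 :=
      (hsub _ (heq.symm ▸ (Subgroup.mem_inf.1 t.2).1)).2
    have h2 : cj H (t : G) (mu ^ n) = mu ^ n := by
      have h3 := hNT mu t
      have e : mu ^ n = mu2 * Nm mu := by rw [hmu2]; ext x; simp
      rw [e, cj_mul, h1, h3]
    exact hpow _ _ (by rw [← h2]; ext x; simp [cj_apply])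
  have hle : S ≤ stab H mu := fun g hg => by
    obtain ⟨h, hh, k, hk, rfl⟩ := hsplit g
    exact (stab H mu).mul_mem (le_stab H hab mu hh) (hmuT ⟨k, Subgroup.mem_inf.2
      ⟨(S.mul_mem_cancel_left (le_stab H hab lam hh)).1 hg, hk⟩⟩)
  refine le_antisymm hle ?_
  have h := Subgroup.relIndex_mul_index hle
  rw [hi2, hi1] at h
  exact Subgroup.relIndex_eq_one.1 (Nat.eq_of_mul_eq_mul_right (by omega)
    (h.trans (one_mul m).symm))

omit [Fintype G] in
/-- Linear characters separate the points of an abelian group. -/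
theorem eq_of_forall_hom [Finite G] (hab : ∀ a ∈ H, ∀ b ∈ H, a * b = b * a) {x y : H}
    (h : ∀ lam : H →* ℂˣ, lam x = lam y) : x = y := by
  refine eq_of_mul_inv_eq_one (Complete.eq_one_of_forall_irr fun θ => ?_)
  have h1 := Linear.degree_eq_one_of_comm (fun a b : H => Subtype.ext (hab _ a.2 _ b.2)) θ
  rw [← Linear.degOneHom_apply (Basic.isCharacter_irr θ) h1, map_mul, map_inv, h, mul_inv_cancel,
    Units.val_one, h1]

omit [Fintype G] in
/-- The structure of groups with two character degrees. -/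
theorem structure_two_degrees [Finite G]
    (hcd : ∀ χ : Cfsg.IrrCharacter G, Cfsg.charDegree (χ : G → ℂ) = 1 ∨
      Cfsg.charDegree (χ : G → ℂ) = m)
    (hm : ∃ χ : Cfsg.IrrCharacter G, Cfsg.charDegree (χ : G → ℂ) = m) (hm1 : m ≠ 1) :
    (∃ A : Subgroup G, A.Normal ∧ (∀ a ∈ A, ∀ b ∈ A, a * b = b * a) ∧ A.index = m) ∨
      ∃ p e : ℕ, p.Prime ∧ m = p ^ e ∧ ∃ P A : Subgroup G, P.Normal ∧ A.Normal ∧
        IsPGroup p P ∧ (∀ a ∈ A, ∀ b ∈ A, a * b = b * a) ∧ P ⊓ A = ⊥ ∧ P ⊔ A = ⊤ := by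
  classical
  haveI := Fintype.ofFinite G
  have hdeg : ∀ (χ : Cfsg.IrrCharacter G) (d : ℕ), (χ : G → ℂ) 1 = d → d = 1 ∨ d = m :=
    fun χ d hd => by
      have := hcd χ
      rwa [S4493.charDegree_eq χ hd] at this
  have hm2 : 2 ≤ m := by
    obtain ⟨χ, hχ⟩ := hm
    obtain ⟨d, hd0, hd⟩ := Basic.exists_degree_pos χ
    rw [S4493.charDegree_eq χ hd] at hχ
    omega
  obtain ⟨H, hHn, hHc, hab, hq, hcase⟩ := TwoDegrees.exists_coprime_abelian hm2 hcd
  haveI := hHn
  haveI : Fintype H := Fintype.ofFinite H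
  have hcop : (Nat.card H).Coprime H.index :=
    Nat.coprime_of_dvd fun q hqp hqH hqi =>
      hqp.coprime_iff_not_dvd.1 ((hHc.coprime_dvd_right (hq q hqp hqi)).symm) hqH
  obtain ⟨K, hK⟩ := Subgroup.exists_right_complement'_of_coprime hcop
  have hsplit : ∀ g : G, ∃ h ∈ H, ∃ k ∈ K, h * k = g := fun g => by
    obtain ⟨⟨⟨h, hh⟩, ⟨k, hk⟩⟩, hg⟩ := hK.surjective g
    exact ⟨h, hh, k, hk, hg⟩
  have hdisj : ∀ x, x ∈ H → x ∈ K → x = 1 := fun x h1 h2 =>
    Subgroup.mem_bot.1 (hK.disjoint.le_bot (Subgroup.mem_inf.2 ⟨h1, h2⟩))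
  -- an element centralising the dual centralises `H`
  have hcent : ∀ g : G, (∀ lam : H →* ℂˣ, g ∈ stab H lam) → ∀ h ∈ H, g * h = h * g := by
    intro g hg h hh
    have := eq_of_forall_hom H hab (x := MulAut.conjNormal g ⟨h, hh⟩) (y := ⟨h, hh⟩)
      fun lam => DFunLike.congr_fun (hg lam) ⟨h, hh⟩
    have e := congrArg Subtype.val this
    rw [MulAut.conjNormal_apply] at e
    have e' : g * h * g⁻¹ = h := e
    calc g * h = g * h * g⁻¹ * g := by group
      _ = h * g := by rw [e']
  by_cases hmoved : ∃ lam : H →* ℂˣ, stab H lam ≠ ⊤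
  · left
    obtain ⟨lam, hlam⟩ := hmoved
    obtain ⟨hi, hc⟩ := index_stab H hm2 hab hcop hdeg lam hlam
    set S := stab H lam with hS
    haveI hSn : S.Normal := Subgroup.Normal.of_commutator_le (h := hc)
    have hHS : H ≤ S := le_stab H hab lam
    have hScent : ∀ g ∈ S, ∀ h ∈ H, g * h = h * g := fun g hg => hcent g fun mu => by
      by_cases hmu : stab H mu = ⊤
      · rw [hmu]; exact Subgroup.mem_top g
      · rw [← stab_unique H hm2 hab hcop hdeg lam mu hlam hmu]; exact hg
    haveI : Fintype S := Fintype.ofFinite S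
    -- the extension to the stabiliser
    let eH : H.subgroupOf S ≃* H := Subgroup.subgroupOfEquivOfLe hHS
    have hord : orderOf (lam.comp eH.toMonoidHom) ∣ Nat.card H := by
      refine orderOf_dvd_of_pow_eq_one (MonoidHom.ext fun x => ?_)
      rw [MonoidHom.pow_apply, MonoidHom.comp_apply, ← map_pow]
      show lam (eH x ^ Nat.card H) = 1
      rw [pow_card_eq_one', map_one]
    obtain ⟨μ, hμ, -⟩ := Clifford.Linear.exists_coprime_extension (H.subgroupOf S)
      (lam.comp eH.toMonoidHom) (fun g n => by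
        show lam _ = lam _
        congr 1
        apply Subtype.ext
        show (g : G) * (n : S) * (g : G)⁻¹ = ((n : S) : G)
        rw [show (g : G) * ((n : S) : G) = ((n : S) : G) * g from hScent _ g.2 _ n.2,
          mul_inv_cancel_right])
      ((hcop.symm.coprime_dvd_left
        ⟨S.index, (Subgroup.relIndex_mul_index hHS).symm⟩).coprime_dvd_right hord)
    have habQ : ∀ a b : S ⧸ H.subgroupOf S, a * b = b * a := by
      refine S4493.comm_of_linear fun β0 => ?_
      let β : Cfsg.IrrCharacter S := ⟨_, Basic.isIrrCharacter_comp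
        (QuotientGroup.mk' (H.subgroupOf S)) (QuotientGroup.mk'_surjective _) β0.2⟩
      obtain ⟨b, hb0, hb⟩ := Basic.exists_degree_pos β
      have hb' : (β0 : S ⧸ H.subgroupOf S → ℂ) 1 = b := by
        rw [← hb]; show _ = (β0 : S ⧸ H.subgroupOf S → ℂ) _; rw [map_one]
      let θ : Cfsg.IrrCharacter S := ⟨_, Linear.isIrrCharacter_linear_mul
        (Basic.isCharacter_irr (Linear.linChar μ)) (by simp [Linear.linChar_apply]) β.2⟩
      have hθ : ∀ s : S, (θ : S → ℂ) s = (μ s : ℂ) * (β : S → ℂ) s := fun s => rfl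
      have hθH : ∀ x : H, (θ : S → ℂ) ⟨(x : G), hHS x.2⟩ = (lam x : ℂ) * b := by
        intro x
        rw [hθ, hμ ⟨⟨(x : G), hHS x.2⟩, x.2⟩, ← hb']
        refine congrArg₂ (fun u v : ℂ => u * v) rfl ?_
        show (β0 : S ⧸ H.subgroupOf S → ℂ) _ = _
        exact congrArg (β0 : S ⧸ H.subgroupOf S → ℂ)
          ((QuotientGroup.eq_one_iff (⟨(x : G), hHS x.2⟩ : S)).2 x.2)
      obtain ⟨χ, hχ⟩ := PrimeDegrees.Solvable.exists_above S θ
      obtain ⟨d, hd0, hd⟩ := Basic.exists_degree_pos χ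
      obtain ⟨e, he⟩ := Basic.exists_classInner_nat
        (Basic.isCharacter_comp S.subtype (Basic.isCharacter_irr χ)) (Basic.isCharacter_irr θ)
      have hinert : Clifford.Basic.inertia S (θ : S → ℂ) ≤ S := by
        intro g hg
        rw [Clifford.Basic.mem_inertia] at hg
        rw [hS, mem_stab]
        refine MonoidHom.ext fun x => Units.ext ?_
        have h1 := congrFun hg ⟨(x : G), hHS x.2⟩
        rw [hθH, Clifford.Basic.conjC_apply] at h1
        have h2 := hθH (MulAut.conjNormal g x)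
        simp only [MulAut.conjNormal_apply] at h2
        rw [h2] at h1
        exact mul_right_cancel₀ (Nat.cast_ne_zero.2 hb0.ne') h1
      have hinert' : Clifford.Basic.inertia S (θ : S → ℂ) = S :=
        le_antisymm hinert (Clifford.Basic.le_inertia S (Basic.isClassFunction_irr θ))
      have hcl := Clifford.Basic.clifford_degree S χ.2 θ hχ
      rw [show (fun n : S => (χ : G → ℂ) n) = (χ : G → ℂ) ∘ S.subtype from rfl, he, hinert', hi,
        hd, hθ, map_one, Units.val_one, one_mul, hb] at hcl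
      have hde : d = e * m * b := by exact_mod_cast hcl
      rw [hb']
      suffices b = 1 by rw [this, Nat.cast_one]
      have he0 : 1 ≤ e := by
        rcases Nat.eq_zero_or_pos e with rfl | h
        · simp at hde; omega
        · exact h
      have h2 : m ≤ e * m := Nat.le_mul_of_pos_left _ he0
      have h3 : e * m ≤ e * m * b := Nat.le_mul_of_pos_right _ hb0
      rcases hdeg χ d hd with h | h
      · omega
      · have h4 : m * (e * b) = m * 1 := by rw [mul_one, mul_left_comm, ← mul_assoc, ← hde, h]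
        exact Nat.eq_one_of_mul_eq_one_left (Nat.eq_of_mul_eq_mul_left (by omega) h4)
    refine ⟨S, hSn, fun a ha b hb => ?_, hi⟩
    obtain ⟨h1, hh1, k1, hk1, rfl⟩ := hsplit a
    obtain ⟨h2, hh2, k2, hk2, rfl⟩ := hsplit b
    have hk1S : k1 ∈ S := (S.mul_mem_cancel_left (hHS hh1)).1 ha
    have hk2S : k2 ∈ S := (S.mul_mem_cancel_left (hHS hh2)).1 hb
    have hk : Commute k1 k2 := by
      have h := habQ (QuotientGroup.mk' _ (⟨k1, hk1S⟩ : S)) (QuotientGroup.mk' _ ⟨k2, hk2S⟩)
      rw [← commutatorElement_eq_one_iff_mul_comm, ← map_commutatorElement, QuotientGroup.mk'_apply,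
        QuotientGroup.eq_one_iff, Subgroup.mem_subgroupOf] at h
      refine commutatorElement_eq_one_iff_mul_comm.1 (hdisj _ h ?_)
      exact K.mul_mem (K.mul_mem (K.mul_mem hk1 hk2) (K.inv_mem hk1)) (K.inv_mem hk2)
    have c11 : Commute h1 h2 := hab _ hh1 _ hh2
    have c12 : Commute k2 h1 := hScent _ hk2S _ hh1
    have c21 : Commute k1 h2 := hScent _ hk1S _ hh2
    exact ((c11.mul_right c12.symm).mul_left (c21.mul_right hk)).eq
  -- `H` is central
  push Not at hmoved
  have hcen : ∀ g : G, ∀ h ∈ H, g * h = h * g := fun g =>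
    hcent g fun lam => by rw [hmoved lam]; exact Subgroup.mem_top g
  rcases hcase with hG' | ⟨p, e, hp, hpe, hpow⟩
  · exfalso
    have hKab : ∀ a ∈ K, ∀ b ∈ K, Commute a b := fun a ha b hb =>
      commutatorElement_eq_one_iff_mul_comm.1 (hdisj _
        (hG' (Subgroup.commutator_mem_commutator (Subgroup.mem_top a) (Subgroup.mem_top b)))
        (K.mul_mem (K.mul_mem (K.mul_mem ha hb) (K.inv_mem ha)) (K.inv_mem hb)))
    have hGab : ∀ a b : G, a * b = b * a := fun a b => by
      obtain ⟨h1, hh1, k1, hk1, rfl⟩ := hsplit a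
      obtain ⟨h2, hh2, k2, hk2, rfl⟩ := hsplit b
      have c11 : Commute h1 h2 := hab _ hh1 _ hh2
      have c12 : Commute k2 h1 := hcen _ _ hh1
      have c21 : Commute k1 h2 := hcen _ _ hh2
      exact ((c11.mul_right c12.symm).mul_left (c21.mul_right (hKab _ hk1 _ hk2))).eq
    obtain ⟨χ, hχ⟩ := hm
    obtain ⟨d, -, hd⟩ := Basic.exists_degree_pos χ
    rw [S4493.charDegree_eq χ hd] at hχ
    have := Linear.degree_eq_one_of_comm hGab χ
    rw [hd, Nat.cast_eq_one] at this
    omega
  right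
  haveI hKn : K.Normal := by
    refine ⟨fun x hx g => ?_⟩
    obtain ⟨h, hh, k, hk, rfl⟩ := hsplit g
    have h1 : h * (k * x * k⁻¹) * h⁻¹ = k * x * k⁻¹ := by
      rw [← hcen _ _ hh, mul_inv_cancel_right]
    have : h * k * x * (h * k)⁻¹ = k * x * k⁻¹ := by
      rw [← h1]; group
    rw [this]
    exact K.mul_mem (K.mul_mem hk hx) (K.inv_mem hk)
  refine ⟨p, e, hp, hpe, K, H, hKn, hHn, fun x => ?_, hab, ?_, ?_⟩
  · obtain ⟨j, hj⟩ := hpow (x : G)
    exact ⟨j, Subtype.ext (hdisj _ hj (K.pow_mem x.2 _))⟩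
  · rw [inf_comm]; exact hK.disjoint.eq_bot
  · rw [sup_comm]; exact hK.sup_eq_top

end Cfsg.Agent.Lib.Elem70.Degrees.Structure
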